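import Mathlib
import Cfsg.Agent.OrthClassCount.Arith

/-!
Numbers for the classes in odd dimension.
-/

set_option autoImplicit false

namespace OddClassCount2560

open OrthClassCount2558
open SpClassCount2482 (cs we prodA prodA_le)

/-- counting values of a part with no eigenvalue other than `±1` in the odd parts -/
def valS (q k m : ℕ) : ℕ :=
  if k % 2 = 0 then (if m % 2 = 0 then q ^ (m / 2) else 0) else if m = 0 then 1 else 4 * m

/-- all tuples of a total -/
def tot (v : ℕ → ℕ → ℕ) (N j : ℕ) : ℕ := ∑ i ∈ Finset.range (N + 1), v 1 (N - i) * rgen v j i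

/-- monotonicity in `q` against `q = 3` -/
def Mono (v : ℕ → ℕ → ℕ → ℕ) : Prop :=
  ∀ q k m : ℕ, 3 ≤ q → v q k m * 3 ^ (m / 2) ≤ v 3 k m * q ^ (m / 2)

lemma mono_comb {q a b c d A B C : ℕ} (hq : 3 ≤ q) (h1 : a * 3 ^ A ≤ b * q ^ A) (h2 : c * 3 ^ B ≤ d * q ^ B)
    (h3 : A + B ≤ C) : a * c * 3 ^ C ≤ b * d * q ^ C := by
  obtain ⟨e, rfl⟩ := Nat.exists_eq_add_of_le h3
  calc a * c * 3 ^ (A + B + e) = (a * 3 ^ A) * (c * 3 ^ B) * 3 ^ e := by rw [pow_add, pow_add]; ring
    _ ≤ (b * q ^ A) * (d * q ^ B) * q ^ e := Nat.mul_le_mul (Nat.mul_le_mul h1 h2) (Nat.pow_le_pow_left hq e)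
    _ = _ := by rw [pow_add, pow_add]; ring

lemma rgen_mono {v : ℕ → ℕ → ℕ → ℕ} (hv : Mono v) {q : ℕ} (hq : 3 ≤ q) :
    ∀ j i, rgen (v q) j i * 3 ^ (i / 2) ≤ rgen (v 3) j i * q ^ (i / 2)
  | 0, i => by
    simp only [rgen]
    split_ifs with h
    · subst h; simp
    · simp
  | j + 1, i => by
    simp only [rgen, Finset.sum_mul]
    refine Finset.sum_le_sum fun m hm => ?_
    rw [Finset.mem_range, Nat.lt_succ_iff, Nat.le_div_iff_mul_le (by omega), mul_comm] at hm
    refine mono_comb hq (hv q (j + 2) m hq) (rgen_mono hv hq j _) ?_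
    have : m ≤ (j + 2) * m := Nat.le_mul_of_pos_left _ (by omega)
    omega

lemma tot_mono {v : ℕ → ℕ → ℕ → ℕ} (hv : Mono v) {q : ℕ} (hq : 3 ≤ q) (n j : ℕ) :
    tot (v q) (2 * n + 1) j * 3 ^ n ≤ tot (v 3) (2 * n + 1) j * q ^ n := by
  simp only [tot, Finset.sum_mul]
  refine Finset.sum_le_sum fun i hi => ?_
  rw [Finset.mem_range] at hi
  exact mono_comb hq (hv q 1 _ hq) (rgen_mono hv hq j i) (by omega)

lemma valS_mono : Mono valS := by
  intro q k m hq
  simp only [valS]
  split_ifs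
  · rw [mul_comm]
  · simp
  · exact Nat.mul_le_mul_left _ (Nat.pow_le_pow_left hq _)
  · exact Nat.mul_le_mul_left _ (Nat.pow_le_pow_left hq _)

lemma we_mono : ∀ q m : ℕ, 3 ≤ q → we q m * 3 ^ (m / 2) ≤ we 3 m * q ^ (m / 2) := by
  intro q m hq
  have P : ∀ A B : ℕ, A ≤ B → q ^ A * 3 ^ B ≤ 3 ^ A * q ^ B := fun A B h => by
    obtain ⟨e, rfl⟩ := Nat.exists_eq_add_of_le h
    rw [pow_add, pow_add, ← mul_assoc, ← mul_assoc, mul_comm (q ^ A)]
    exact Nat.mul_le_mul_left _ (Nat.pow_le_pow_left hq e)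
  rcases m with _ | _ | m
  · simp [we, cs]
  · simp [we, cs]
  · rcases Nat.even_or_odd' m with ⟨i, rfl | rfl⟩
    · rcases i with _ | i
      · simp [we, cs]
        omega
      · have e : ∀ q, we q (2 * (i + 1) + 2) = q ^ (i + 2) + 6 * q ^ (i + 1) + q ^ i := fun q => by
          rw [show 2 * (i + 1) + 2 = (2 * i + 2) + 2 by ring, we]
          simp only [cs, if_neg (show ¬ (2 * i + 1) % 2 = 0 by omega), if_pos (show (2 * i + 2) % 2 = 0 by omega),
            if_neg (show ¬ (2 * i + 2 + 1) % 2 = 0 by omega), show (2 * i + 2 + 1) / 2 = i + 1 by omega,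
            show (2 * i + 2) / 2 = i + 1 by omega, show (2 * i + 1) / 2 = i by omega]
          ring
        rw [e, e, show (2 * (i + 1) + 1 + 1) / 2 = i + 2 by omega, add_mul, add_mul, add_mul, add_mul, mul_assoc 6,
          mul_assoc 6]
        exact Nat.add_le_add (Nat.add_le_add (P _ _ le_rfl) (Nat.mul_le_mul_left 6 (P _ _ (by omega)))) (P _ _ (by omega))
    · have e : ∀ q, we q (2 * i + 1 + 2) = 4 * q ^ (i + 1) + 4 * q ^ i := fun q => by
        rw [we]
        simp only [cs, if_pos (show (2 * i + 2) % 2 = 0 by omega), if_neg (show ¬ (2 * i + 1) % 2 = 0 by omega),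
          if_pos (show (2 * i) % 2 = 0 by omega), show (2 * i + 2) / 2 = i + 1 by omega,
          show (2 * i + 1) / 2 = i by omega, show (2 * i) / 2 = i by omega]
        ring
      rw [e, e, show (2 * i + 1 + 1 + 1) / 2 = i + 1 by omega, add_mul, add_mul, mul_assoc 4, mul_assoc 4, mul_assoc 4,
        mul_assoc 4]
      exact Nat.add_le_add (Nat.mul_le_mul_left 4 (P _ _ le_rfl)) (Nat.mul_le_mul_left 4 (P _ _ (by omega)))

lemma valT_mono : Mono valT := by
  intro q k m hq
  simp only [valT]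
  split_ifs
  · rw [mul_comm]
  · simp
  · exact we_mono q m hq

lemma rgen_valE_odd (q : ℕ) : ∀ j i, i % 2 = 1 → rgen (valE q) j i = 0
  | 0, i, h => by rw [rgen, if_neg (by omega)]
  | j + 1, i, h => by
    rw [rgen]
    refine Finset.sum_eq_zero fun m hm => ?_
    rw [Finset.mem_range, Nat.lt_succ_iff, Nat.le_div_iff_mul_le (by omega), mul_comm] at hm
    by_cases hm2 : m % 2 = 0
    · rw [rgen_valE_odd q j _ (by
        obtain ⟨l, rfl⟩ : ∃ l, m = 2 * l := ⟨m / 2, by omega⟩
        rw [mul_left_comm] at hm ⊢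
        omega), mul_zero]
    · rw [valE, if_neg hm2, zero_mul]

lemma tot_valE_odd (q n j : ℕ) : tot (valE q) (2 * n + 1) j = 0 := by
  refine Finset.sum_eq_zero fun i hi => ?_
  rw [Finset.mem_range] at hi
  by_cases h : i % 2 = 1
  · rw [rgen_valE_odd q j i h, mul_zero]
  · rw [valE, if_neg (by omega), zero_mul]

lemma totT_three (n j : ℕ) : 10 * tot (valT 3) (2 * n + 1) j ≤ 287 * 3 ^ n := by
  obtain ⟨hs0, hs1, hqs, hs3⟩ := sq'_spec (q := 3) le_rfl
  set s := sq' 3 with hs
  rw [Nat.cast_ofNat] at hqs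
  have hA : (prodA j : ℝ) ≤ 1786 / 1000 := by
    have := Rat.cast_le (K := ℝ).2 (prodA_le j)
    push_cast at this
    linarith
  have hT := sum_rgen_le hs0 (valT 3) facT facT_nonneg (sum_valT_le le_rfl) j (2 * n + 1 + 1)
  rw [prodT_eq, prodE_eq] at hT
  have hPle := mul_le_mul (pow_le_pow_left₀ (Finset.prod_nonneg fun l _ => by rw [sig0]; positivity) (prodS_le (j / 2)) 4) hA
    (by rw [← prodE_eq]; exact Finset.prod_nonneg fun l _ => (facE_pos l).le) (by norm_num)
  have hslow : (5762 / 10000 : ℝ) ≤ s := by nlinarith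
  have hV : ∀ m, (valT 3 1 m : ℝ) * s ^ m ≤ 54 / 10 * s := by
    intro m
    have h := we_le (q := 3) le_rfl m
    rw [show valT 3 1 m = we 3 m by simp [valT]]
    rcases Nat.even_or_odd m with hev | ⟨i, rfl⟩
    · refine h.trans ?_
      linarith
    · rcases i with _ | i
      · simp [we, cs]; linarith
      · have e : we 3 (2 * (i + 1) + 1) = 4 * 3 ^ (i + 1) + 4 * 3 ^ i := by
          rw [show 2 * (i + 1) + 1 = 2 * i + 1 + 2 by ring, we]
          simp only [cs, if_pos (show (2 * i + 2) % 2 = 0 by omega), if_neg (show ¬ (2 * i + 1) % 2 = 0 by omega),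
            if_pos (show (2 * i) % 2 = 0 by omega), show (2 * i + 2) / 2 = i + 1 by omega,
            show (2 * i + 1) / 2 = i by omega, show (2 * i) / 2 = i by omega]
          ring
        rw [e]
        push_cast
        have hp : ∀ l, (3 : ℝ) ^ l * (s ^ 2) ^ l = 1 := fun l => by rw [← mul_pow, hqs, one_pow]
        calc (4 * (3 : ℝ) ^ (i + 1) + 4 * (3 : ℝ) ^ i) * s ^ (2 * (i + 1) + 1)
            = (4 * ((3 : ℝ) ^ (i + 1) * (s ^ 2) ^ (i + 1)) + 4 * ((3 : ℝ) ^ i * (s ^ 2) ^ i) * s ^ 2) * s := by ring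
          _ ≤ 54 / 10 * s := by rw [hp, hp]; exact mul_le_mul_of_nonneg_right (by linarith) hs0
  have h1 := conv_le hs0 (2 * n + 1) (valT 3 1) (rgen (valT 3) j) (C := 54 / 10 * s) (by positivity) hV (hT.trans hPle)
  rw [pow_succ s (2 * n), ← mul_assoc, mul_right_comm (54 / 10 : ℝ) s] at h1
  have h2 := le_of_mul_le_mul_right h1 (show (0 : ℝ) < s by linarith)
  have h3 : ((tot (valT 3) (2 * n + 1) j : ℕ) : ℝ) ≤ 287 / 10 * (3 : ℝ) ^ n := by
    have h4 := mul_le_mul_of_nonneg_right (h2.trans (show _ ≤ (287 / 10 : ℝ) by norm_num))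
      (show (0 : ℝ) ≤ (3 : ℝ) ^ n by positivity)
    rw [mul_assoc, pow_mul, ← mul_pow, mul_comm (s ^ 2), hqs, one_pow, mul_one] at h4
    exact h4
  have h5 : ((10 * tot (valT 3) (2 * n + 1) j : ℕ) : ℝ) ≤ ((287 * 3 ^ n : ℕ) : ℝ) := by push_cast; linarith
  exact_mod_cast h5

/-- the evaluation point -/
noncomputable def tt : ℝ := 17 / 25

/-- the factor of a part -/
noncomputable def facS (k : ℕ) : ℝ :=
  if k % 2 = 0 then 1 / (1 - 3 * tt ^ (2 * k)) else ((1 + tt ^ k) / (1 - tt ^ k)) ^ 2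

lemma tt_spec (k : ℕ) : 0 < tt ∧ tt < 1 ∧ 3 * tt ^ (2 * (k + 2)) < 1 ∧ tt ^ (k + 2) < 1 := by
  have h0 : (0 : ℝ) < tt := by norm_num [tt]
  have h1 : tt < 1 := by norm_num [tt]
  refine ⟨h0, h1, ?_, pow_lt_one₀ h0.le h1 (by omega)⟩
  have : tt ^ (2 * (k + 2)) ≤ tt ^ 4 := pow_le_pow_of_le_one h0.le h1.le (by omega)
  have h4 : 3 * tt ^ 4 < 1 := by norm_num [tt]
  linarith

lemma facS_nonneg (j : ℕ) : 0 ≤ facS (j + 2) := by
  obtain ⟨h0, h1, h2, h3⟩ := tt_spec j
  rw [facS]
  split_ifs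
  · exact div_nonneg one_pos.le (by linarith)
  · positivity

lemma sum_valS_le (j M : ℕ) :
    ∑ m ∈ Finset.range M, (valS 3 (j + 2) m : ℝ) * tt ^ ((j + 2) * m) ≤ facS (j + 2) := by
  obtain ⟨h0, h1, h2, h3⟩ := tt_spec j
  rw [facS]
  split_ifs with hk
  · have key : ∀ L, ∑ m ∈ Finset.range (2 * L), (valS 3 (j + 2) m : ℝ) * tt ^ ((j + 2) * m) =
        ∑ i ∈ Finset.range L, (3 * tt ^ (2 * (j + 2))) ^ i := by
      intro L
      induction L with
      | zero => simp
      | succ L ih =>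
        rw [show 2 * (L + 1) = 2 * L + 1 + 1 by ring, Finset.sum_range_succ, Finset.sum_range_succ, ih,
          Finset.sum_range_succ _ L, valS, valS, if_pos hk, if_pos hk, if_pos (by omega), if_neg (by omega),
          show 2 * L / 2 = L by omega, Nat.cast_zero, zero_mul, add_zero, Nat.cast_pow, mul_pow, ← pow_mul,
          show (j + 2) * (2 * L) = 2 * (j + 2) * L by ring]
        norm_num
    refine (Finset.sum_le_sum_of_subset_of_nonneg (Finset.range_subset_range.2 (show M ≤ 2 * M by omega))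
      fun i _ _ => by positivity).trans ?_
    rw [key]
    exact geom_le (by positivity) le_rfl h2 M
  · set u := tt ^ (j + 2) with hu
    have hu0 : 0 < u := by positivity
    have hsum : ∀ L, (∑ m ∈ Finset.range (L + 1), (valS 3 (j + 2) m : ℝ) * tt ^ ((j + 2) * m)) * (1 - u) ^ 2 =
        (1 - u) ^ 2 + 4 * (u - (L + 1) * u ^ (L + 1) + L * u ^ (L + 2)) := by
      intro L
      induction L with
      | zero => simp [valS, if_neg hk]
      | succ L ih =>
        rw [Finset.sum_range_succ, add_mul, ih, valS, if_neg hk, if_neg (Nat.succ_ne_zero L), pow_mul, ← hu]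
        push_cast
        ring
    refine (Finset.sum_le_sum_of_subset_of_nonneg (Finset.range_subset_range.2 (show M ≤ M + 1 by omega))
      fun i _ _ => by positivity).trans ?_
    have hne : (0 : ℝ) < (1 - u) ^ 2 := pow_pos (by linarith) 2
    rw [div_pow, le_div_iff₀ hne, hsum M]
    have h5 : (M : ℝ) * u ^ (M + 2) ≤ (M + 1) * u ^ (M + 1) := by
      refine mul_le_mul (by linarith) ?_ (by positivity) (by positivity)
      exact pow_le_pow_of_le_one hu0.le h3.le (by omega)
    nlinarith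

lemma prod_facS_le (j : ℕ) : ∏ l ∈ Finset.range j, facS (l + 2) ≤ 371 / 10 := by
  have hone : ∀ l, 1 ≤ facS (l + 2) := fun l => by
    obtain ⟨h0, h1, h2, h3⟩ := tt_spec l
    have hp : 0 < tt ^ (l + 2) := by positivity
    have hp2 : 0 < tt ^ (2 * (l + 2)) := by positivity
    rw [facS]
    split_ifs
    · rw [one_le_div (by linarith)]; linarith
    · refine one_le_pow₀ ?_
      rw [one_le_div (by linarith)]; linarith
  suffices h : ∀ j, 16 ≤ j → ∏ l ∈ Finset.range j, facS (l + 2) ≤ 371 / 10 * (1 - 8 * tt ^ j) by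
    refine le_trans ?_ ((h (j + 16) (by omega)).trans ?_)
    · rw [Finset.prod_range_add]
      exact le_mul_of_one_le_right (Finset.prod_nonneg fun l _ => facS_nonneg l) (Finset.one_le_prod fun l _ => hone _)
    · have : 0 ≤ tt ^ (j + 16) := by norm_num [tt]
      linarith
  intro j hj
  induction j, hj using Nat.le_induction with
  | base => norm_num [facS, tt, Finset.prod_range_succ]
  | succ j hj ih =>
    obtain ⟨h0, h1, h2, h3⟩ := tt_spec j
    rw [Finset.prod_range_succ]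
    refine (mul_le_mul_of_nonneg_right ih (facS_nonneg j)).trans ?_
    rw [mul_assoc]
    refine mul_le_mul_of_nonneg_left ?_ (by norm_num)
    set x := tt ^ j with hx
    have hx0 : 0 < x := by positivity
    have hx1 : x ≤ 1 / 100 := (pow_le_pow_of_le_one h0.le h1.le hj).trans (by norm_num [tt])
    have hu : tt ^ (j + 2) = tt ^ 2 * x := by rw [hx, pow_add, mul_comm]
    have hu' : tt ^ (j + 2) ≤ 1 / 100 := by
      rw [hu]
      nlinarith [show tt ^ 2 ≤ 1 by norm_num [tt]]
    have hfac : facS (j + 2) ≤ 1 + 5 * tt ^ (j + 2) := by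
      set u := tt ^ (j + 2) with hu2
      have hu0 : 0 < u := by positivity
      rw [facS]
      split_ifs
      · rw [show tt ^ (2 * (j + 2)) = u ^ 2 by rw [hu2, ← pow_mul, mul_comm], div_le_iff₀ (by nlinarith)]
        nlinarith
      · rw [← hu2, div_pow, div_le_iff₀ (pow_pos (by linarith) 2)]
        nlinarith [mul_nonneg hu0.le (show (0 : ℝ) ≤ 1 - 10 * u by linarith), pow_pos hu0 3]
    refine (mul_le_mul_of_nonneg_left hfac (by nlinarith)).trans ?_
    rw [hu, show tt ^ (j + 1) = x * tt by rw [hx, pow_succ], tt]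
    nlinarith

lemma valS_le (m : ℕ) : (valS 3 1 m : ℝ) * tt ^ m ≤ 378 / 100 := by
  have h : ∀ m : ℕ, 3 ≤ m → 4 * (m : ℝ) * tt ^ m ≤ 378 / 100 := by
    intro m hm
    induction m, hm using Nat.le_induction with
    | base => norm_num [tt]
    | succ m hm ih =>
      refine le_trans ?_ ih
      have h0 : (0 : ℝ) ≤ tt ^ m := by norm_num [tt]
      have hm' : (3 : ℝ) ≤ m := by exact_mod_cast hm
      rw [pow_succ, tt] at *
      push_cast
      nlinarith
  rcases Nat.lt_or_ge m 3 with hm | hm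
  · interval_cases m <;> norm_num [valS, tt]
  · rw [valS, if_neg (by omega), if_neg (by omega)]
    push_cast
    exact h m hm

lemma totS_three (n : ℕ) : 10 * tot (valS 3) (2 * n + 1) (2 * n) ≤ 99 * 3 ^ n := by
  rcases Nat.lt_or_ge n 10 with hn | hn
  · revert hn
    revert n
    decide +kernel
  · have h0 : (0 : ℝ) < tt := by norm_num [tt]
    have hS := sum_rgen_le h0.le (valS 3) facS facS_nonneg sum_valS_le (2 * n) (2 * n + 1 + 1)
    have h1 := conv_le h0.le (2 * n + 1) (valS 3 1) (rgen (valS 3) (2 * n)) (C := 378 / 100) (by norm_num) valS_le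
      (hS.trans (prod_facS_le _))
    have h2 : ∀ n, 10 ≤ n → (378 / 100 : ℝ) * (371 / 10) ≤ 99 / 10 * (3 : ℝ) ^ n * tt ^ (2 * n + 1) := by
      intro n hn
      induction n, hn using Nat.le_induction with
      | base => norm_num [tt]
      | succ n _ ih =>
        refine ih.trans ?_
        rw [show 2 * (n + 1) + 1 = 2 * n + 1 + 2 by ring, pow_add tt (2 * n + 1) 2, pow_succ (3 : ℝ)]
        calc 99 / 10 * (3 : ℝ) ^ n * tt ^ (2 * n + 1)
            ≤ (99 / 10 * (3 : ℝ) ^ n * tt ^ (2 * n + 1)) * (3 * tt ^ 2) :=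
              le_mul_of_one_le_right (by positivity) (by norm_num [tt])
          _ = _ := by ring
    have h3 := le_of_mul_le_mul_right (h1.trans (h2 n hn)) (pow_pos h0 _)
    have h5 : ((10 * tot (valS 3) (2 * n + 1) (2 * n) : ℕ) : ℝ) ≤ ((99 * 3 ^ n : ℕ) : ℝ) := by
      rw [tot]
      push_cast at h3 ⊢
      linarith
    exact_mod_cast h5

/-- the numerical bound -/
theorem total_le {q : ℕ} (hq : 3 ≤ q) (n : ℕ) :
    10 * (tot (valT q) (2 * n + 1) (2 * n) + 3 * tot (valS q) (2 * n + 1) (2 * n)) ≤ 584 * q ^ n := by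
  refine Nat.le_of_mul_le_mul_right ?_ (show 0 < 3 ^ n by positivity)
  have a := tot_mono valT_mono hq n (2 * n)
  have b := tot_mono valS_mono hq n (2 * n)
  have c := Nat.mul_le_mul_right (q ^ n) (totT_three n (2 * n))
  have d := Nat.mul_le_mul_right (q ^ n) (totS_three n)
  calc 10 * (tot (valT q) (2 * n + 1) (2 * n) + 3 * tot (valS q) (2 * n + 1) (2 * n)) * 3 ^ n
      = 10 * (tot (valT q) (2 * n + 1) (2 * n) * 3 ^ n) + 30 * (tot (valS q) (2 * n + 1) (2 * n) * 3 ^ n) := by ring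
    _ ≤ 10 * (tot (valT 3) (2 * n + 1) (2 * n) * q ^ n) + 30 * (tot (valS 3) (2 * n + 1) (2 * n) * q ^ n) :=
        Nat.add_le_add (Nat.mul_le_mul_left _ a) (Nat.mul_le_mul_left _ b)
    _ = 10 * tot (valT 3) (2 * n + 1) (2 * n) * q ^ n + 3 * (10 * tot (valS 3) (2 * n + 1) (2 * n) * q ^ n) := by ring
    _ ≤ 287 * 3 ^ n * q ^ n + 3 * (99 * 3 ^ n * q ^ n) := Nat.add_le_add c (Nat.mul_le_mul_left _ d)
    _ = 584 * q ^ n * 3 ^ n := by ring

end OddClassCount2560
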