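import Mathlib
import Cfsg.Agent.Lib.Classical.SelfRecipOrder
import Cfsg.Agent.OrthClassCount.Normal
import Cfsg.Agent.OrthClassCount.Disc

/-!
Polynomials acting as free isometries of the pieces without eigenvalue `±1`.
-/

set_option autoImplicit false
set_option linter.unusedSectionVars false

universe u

namespace OddClassCount2560

open Polynomial Module GLClassCount2478 OrthClassCount2558
open SpClassCount2482 (du du_monic du_irreducible du_du du_coeff_zero natDegree_du X_sub_C_SR SR SR_iff_du)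

variable {F : Type u} [Field F] [Fintype F]

/-- a free isometric polynomial of order `M` on a piece of dimension `2 j` -/
def IsTorus {N' : Type u} [AddCommGroup N'] [Module F N'] [Module F[X] N'] (B : N' →ₗ[F] N' →ₗ[F] F) : Prop :=
  ∃ (r : F[X]) (M t j : ℕ) (ε : ℤ), Even M ∧ 2 < M ∧ Nat.Coprime (Fintype.card F) M ∧ Odd t ∧ (ε = 1 ∨ ε = -1) ∧
    (M : ℤ) * t = (Fintype.card F : ℤ) ^ j - ε ∧ Module.finrank F N' = 2 * j ∧
    (∀ a b, B (r • a) (r • b) = B a b) ∧ (∀ a : N', r ^ M • a = a) ∧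
    ∀ i, 0 < i → i < M → ∀ a : N', r ^ i • a = a → a = 0

lemma expand_pow_card (g : F[X]) : ∀ k : ℕ, Polynomial.expand F (Fintype.card F ^ k) g = g ^ Fintype.card F ^ k
  | 0 => by simp
  | k + 1 => by rw [pow_succ, ← Polynomial.expand_expand, FiniteField.expand_card, map_pow, expand_pow_card g k, ← pow_mul]

lemma dvd_pow_card {f h : F[X]} (hd : f ∣ h - 1) (m : ℕ) : f ^ m ∣ h ^ Fintype.card F ^ m - 1 := by
  obtain ⟨p, hp⟩ := CharP.exists F
  haveI : Fact p.Prime := ⟨CharP.char_is_prime F p⟩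
  obtain ⟨e, -, he⟩ := FiniteField.card F p
  have h1 : (h - 1) ^ Fintype.card F ^ m = h ^ Fintype.card F ^ m - 1 := by
    rw [he, ← pow_mul, sub_pow_char_pow, one_pow]
  rw [← h1]
  exact ((pow_dvd_pow f (Nat.lt_pow_self Fintype.one_lt_card).le).trans (pow_dvd_pow_of_dvd hd _))

lemma exists_generator {f : F[X]} (hf : Irreducible f) :
    ∃ g : F[X], ∀ i : ℕ, f ∣ g ^ i - 1 ↔ Fintype.card F ^ f.natDegree - 1 ∣ i := by
  haveI : Fact (Irreducible f) := ⟨hf⟩
  haveI : Module.Finite F (AdjoinRoot f) := (AdjoinRoot.powerBasis hf.ne_zero).finite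
  haveI : Finite (AdjoinRoot f) := Module.finite_of_finite F
  letI : Fintype (AdjoinRoot f) := Fintype.ofFinite _
  have hcard : Nat.card (AdjoinRoot f)ˣ = Fintype.card F ^ f.natDegree - 1 := by
    rw [Nat.card_units, Module.natCard_eq_pow_finrank (K := F), (AdjoinRoot.powerBasis hf.ne_zero).finrank,
      AdjoinRoot.powerBasis_dim, Nat.card_eq_fintype_card (α := F)]
  obtain ⟨γ, hγ⟩ := IsCyclic.exists_generator (α := (AdjoinRoot f)ˣ)
  obtain ⟨g, hg⟩ := AdjoinRoot.mk_surjective (γ : AdjoinRoot f)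
  refine ⟨g, fun i => ?_⟩
  rw [← AdjoinRoot.mk_eq_zero, map_sub, map_pow, map_one, hg, sub_eq_zero, ← Units.val_pow_eq_pow_val,
    Units.val_eq_one, ← orderOf_dvd_iff_pow_eq_one, orderOf_eq_card_of_forall_mem_zpowers hγ, hcard]

lemma coprime_of_not_dvd {f p : F[X]} (hf : Irreducible f) (h : ¬ f ∣ p) (m : ℕ) : IsCoprime p (f ^ m) :=
  (hf.coprime_iff_not_dvd.2 h).symm.pow_right

lemma smul_eq_of_dvd {f h : F[X]} {m : ℕ} (hd : f ^ m ∣ h - 1) (a : blk (f, m)) : h • a = a := by
  obtain ⟨p, hp⟩ := hd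
  rw [show h = 1 + f ^ m * p by rw [← hp]; ring, add_smul, one_smul, mul_comm, ← smul_smul, blk_kill, smul_zero,
    add_zero]

lemma eq_zero_of_coprime {f p : F[X]} {m : ℕ} (hco : IsCoprime p (f ^ m)) {a : blk (f, m)} (ha : p • a = 0) : a = 0 := by
  obtain ⟨c, d, hcd⟩ := hco
  rw [← one_smul F[X] a, ← hcd, add_smul, ← smul_smul, ← smul_smul, ha, blk_kill, smul_zero, smul_zero, add_zero]

lemma exists_odd_quot (x : ℕ) (hx : Odd x) : ∀ l : ℕ, ∃ t : ℕ, Odd t ∧ ((x : ℤ) + 1) * t = (x : ℤ) ^ (2 * l + 1) + 1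
  | 0 => ⟨1, odd_one, by simp⟩
  | l + 1 => by
    obtain ⟨t, ht, he⟩ := exists_odd_quot x hx l
    have hle : x - 1 ≤ x * x * t := by
      have : x ≤ x * x * t := by
        have := Nat.mul_pos hx.pos ht.pos
        calc x = x * 1 := (mul_one x).symm
          _ ≤ x * (x * t) := Nat.mul_le_mul_left x this
          _ = x * x * t := (mul_assoc x x t).symm
      omega
    refine ⟨x * x * t - (x - 1), ?_, ?_⟩
    · exact Nat.Odd.sub_even hle ((hx.mul hx).mul ht) (Nat.Odd.sub_odd hx odd_one)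
    · rw [Nat.cast_sub hle, Nat.cast_sub hx.pos, show 2 * (l + 1) + 1 = 2 * l + 1 + 1 + 1 by ring, pow_succ, pow_succ]
      push_cast
      linear_combination ((x : ℤ) * x) * he

variable {f : F[X]} {m N : ℕ}

/-- the adjoint of `(du f) ^ m` kills the block of `f` -/
lemma sig_du_kill (hfm : f.Monic) (hfi : Irreducible f) (h0 : f.coeff 0 ≠ 0) (hN : Period F (blk (f, m)) N)
    (x : blk (f, m)) : sig N (du f ^ m) • x = 0 := by
  have hd0 : (du f).coeff 0 ≠ 0 := by rw [du_coeff_zero hfm]; exact inv_ne_zero h0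
  have hcu : IsCoprime (dfac (du f ^ m)) (f ^ m) := by
    refine coprime_dfac (by rw [coeff_zero_eq_eval_zero, eval_pow, ← coeff_zero_eq_eval_zero]; exact pow_ne_zero _ hd0) hfi (fun hd => h0 ?_) m
    rw [eq_of_monic_of_associated hfm monic_X (hfi.associated_of_dvd irreducible_X hd), coeff_X_zero]
  obtain ⟨a', b', hab⟩ := hcu
  have : x = dfac (du f ^ m) • (a' • x) := by
    conv_lhs => rw [← one_smul F[X] x, ← hab, add_smul, ← smul_smul b', blk_kill, smul_zero, add_zero,
      mul_comm, ← smul_smul]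
  rw [this, ← du_smul hN, du_pow, du_du hfm h0, blk_kill]

theorem torus_self (hodd : Odd (Fintype.card F)) (h2 : (2 : F) ≠ 0) (hfm : f.Monic) (hfi : Irreducible f)
    (h0 : f.coeff 0 ≠ 0) (hdu : du f = f) (h1 : f ≠ X - C 1) (hn1 : f ≠ X - C (-1)) (hm : Odd m)
    {B : blk (f, m) →ₗ[F] blk (f, m) →ₗ[F] F} (hB : IsInv B) (hN : Period F (blk (f, m)) N) : IsTorus B := by
  classical
  set q := Fintype.card F with hq
  obtain ⟨-, hX⟩ := Cfsg.Agent.Classical.SelfRecipOrder.irreducible_dvd hfi hfm h0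
  obtain ⟨k, hk, hk1, hXk⟩ := hX (by
      rw [Cfsg.Agent.Classical.SelfRecipOrder.star, (SR_iff_du hfm h0 hdu).2,
        normalize_eq_normalize (a := C (f.coeff 0) * f) (b := f)
          ((isUnit_C.2 (isUnit_iff_ne_zero.2 h0)).mul_left_dvd.2 dvd_rfl) (dvd_mul_left f _),
        hfm.normalize_eq_self])
    (by rwa [← C_1]) (fun e => hn1 (by rw [e, map_neg, C_1, sub_neg_eq_add]))
  obtain ⟨g, hg⟩ := exists_generator hfi
  set NN := q ^ m with hNN
  have hq1 : 1 < q := Fintype.one_lt_card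
  have hqk : 1 < q ^ k := Nat.one_lt_pow (by omega) hq1
  have hQ : q ^ f.natDegree - 1 = (q ^ k - 1) * (q ^ k + 1) := by
    rw [hk, mul_comm (q ^ k - 1), ← Nat.sq_sub_sq, one_pow, ← pow_mul, mul_comm k]
  have hXN : f ∣ X ^ N - 1 := by
    have h : ((X : F[X]) ^ N - 1) • one' f m = 0 := by rw [sub_smul, one_smul, hN.2, sub_self]
    rw [smul_one_eq_zero] at h
    exact (dvd_pow_self f hm.pos.ne').trans h
  have hsig : f ∣ sig N g - g ^ q ^ k := by
    haveI : Fact (Irreducible f) := ⟨hfi⟩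
    rw [← AdjoinRoot.mk_eq_zero, map_sub, sub_eq_zero, ← expand_pow_card, Polynomial.expand_eq_comp_X_pow, sig,
      ← AdjoinRoot.aeval_eq, ← AdjoinRoot.aeval_eq, aeval_comp, aeval_comp, map_pow, map_pow, aeval_X]
    congr 2
    have hα0 : (AdjoinRoot.root f) ≠ 0 := by
      intro h
      have hfX : f ∣ X := by rw [← AdjoinRoot.mk_eq_zero, AdjoinRoot.mk_X]; exact h
      exact h0 (by rw [eq_of_monic_of_associated hfm monic_X (hfi.associated_of_dvd irreducible_X hfX), coeff_X_zero])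
    refine mul_right_cancel₀ hα0 ?_
    rw [← pow_succ, ← pow_succ, show N - 1 + 1 = N by have := hN.1; omega]
    rw [← AdjoinRoot.mk_eq_zero, map_sub, map_pow, map_one, AdjoinRoot.mk_X, sub_eq_zero] at hXN hXk
    rw [hXN, hXk]
  have hM : f ∣ (sig N g * g) ^ (q ^ k - 1) - 1 := by
    rw [← AdjoinRoot.mk_eq_zero, map_sub, sub_eq_zero] at hsig
    rw [← AdjoinRoot.mk_eq_zero, map_sub, map_pow, map_mul, hsig, ← map_mul, ← map_pow, ← map_sub, AdjoinRoot.mk_eq_zero,
      ← pow_succ, ← pow_mul, hg, hQ, mul_comm]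
  obtain ⟨l, rfl⟩ := hm
  obtain ⟨t, hto, hte⟩ := exists_odd_quot (q ^ k) hodd.pow l
  refine ⟨g ^ (NN * (q ^ k - 1)), q ^ k + 1, t, k * (2 * l + 1), -1, (hodd.pow).add_odd odd_one, by omega, ?_, hto,
    Or.inr rfl, ?_, ?_, fun a b => ?_, fun a => ?_, fun i hi0 hiM a ha => ?_⟩
  · rw [show q ^ k + 1 = 1 + q * q ^ (k - 1) by rw [← pow_succ', Nat.sub_add_cancel hk1, add_comm],
      Nat.coprime_add_mul_left_right]
    exact Nat.coprime_one_right q
  · push_cast at hte ⊢
    rw [pow_mul]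
    linear_combination hte
  · rw [finrank_blk hfm, hk]; ring
  · rw [hB.adj hN, smul_smul, sig_pow, ← mul_pow, mul_comm (sig N g), mul_comm g, mul_comm NN, pow_mul]
    congr 1
    exact smul_eq_of_dvd (dvd_pow_card hM _) b
  · refine smul_eq_of_dvd ?_ a
    rw [← pow_mul, show NN * (q ^ k - 1) * (q ^ k + 1) = (q ^ f.natDegree - 1) * NN by rw [hQ]; ring, pow_mul]
    exact dvd_pow_card ((hg _).2 dvd_rfl) _
  · refine eq_zero_of_coprime (coprime_of_not_dvd hfi (fun hd => ?_) _) (show ((g ^ (NN * (q ^ k - 1))) ^ i - 1) • a = 0 by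
      rw [sub_smul, ha, one_smul, sub_self])
    rw [← pow_mul, hg, hQ, mul_comm NN, mul_assoc, Nat.mul_dvd_mul_iff_left (by omega)] at hd
    have hco : Nat.Coprime (q ^ k + 1) NN := by
      rw [hNN]
      refine Nat.Coprime.pow_right _ ?_
      rw [show q ^ k + 1 = 1 + q * q ^ (k - 1) by rw [← pow_succ', Nat.sub_add_cancel hk1, add_comm],
        Nat.coprime_add_mul_left_left]
      exact Nat.coprime_one_left q
    have := Nat.le_of_dvd hi0 (hco.dvd_of_dvd_mul_left hd)
    omega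

theorem torus_pair (hodd : Odd (Fintype.card F)) (hfm : f.Monic) (hfi : Irreducible f) (h0 : f.coeff 0 ≠ 0)
    (hne : du f ≠ f) (hm : Odd m) {B : blk (f, m) × blk (du f, m) →ₗ[F] blk (f, m) × blk (du f, m) →ₗ[F] F}
    (hB : IsInv B) (hN : Period F (blk (f, m) × blk (du f, m)) N) : IsTorus B := by
  set q := Fintype.card F with hq
  have hq1 : 1 < q := Fintype.one_lt_card
  set d := f.natDegree with hd
  have hd1 : 1 ≤ d := hfi.natDegree_pos
  have hdm := du_monic h0
  have hdi := du_irreducible hfm h0 hfi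
  have hd0 : (du f).coeff 0 ≠ 0 := by rw [du_coeff_zero hfm]; exact inv_ne_zero h0
  have hM2 : 2 < q ^ d - 1 := by
    by_contra hle
    have h1 : q ^ 1 ≤ q ^ d := Nat.pow_le_pow_right (by omega) hd1
    rw [pow_one] at h1
    obtain ⟨i, hi⟩ := hodd
    have hq3 : q = 3 := by omega
    have hd' : d = 1 := by
      by_contra hd'
      have h2 : q ^ 2 ≤ q ^ d := Nat.pow_le_pow_right (by omega) (by omega)
      rw [hq3] at h2 hle
      omega
    refine hne ?_
    have hf : f = X - C (-(f.coeff 0)) := by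
      conv_lhs => rw [hfm.eq_X_add_C hd']
      rw [map_neg, sub_neg_eq_add]
    rw [hf]
    refine du_X_sub_C ?_
    have := FiniteField.pow_card_sub_one_eq_one (-(f.coeff 0)) (neg_ne_zero.2 h0)
    rw [← hq, hq3] at this
    rwa [sq] at this
  have hNf : Period F (blk (f, m)) N := Period.of_injective (φ := LinearMap.inl F[X] _ _) LinearMap.inl_injective hN
  have hNd : Period F (blk (du f, m)) N := Period.of_injective (φ := LinearMap.inr F[X] _ _) LinearMap.inr_injective hN
  obtain ⟨g, hg⟩ := exists_generator hfi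
  set M := q ^ d - 1 with hM
  set g1 := g ^ q ^ m with hg1
  have hg1M : f ^ m ∣ g1 ^ M - 1 := by
    rw [hg1, ← pow_mul, mul_comm, pow_mul]
    exact dvd_pow_card ((hg _).2 dvd_rfl) _
  have hco : IsCoprime (f ^ m) (du f ^ m) :=
    ((hfi.coprime_iff_not_dvd.2 fun h => hne (eq_of_monic_of_associated hfm hdm
      (hfi.associated_of_dvd hdi h)).symm).pow)
  obtain ⟨a', b', hab⟩ := hco
  set h1 := sig N (g1 ^ (M - 1)) with hh1
  set r := g1 * (b' * du f ^ m) + h1 * (a' * f ^ m) with hr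
  have sig_one : sig N (1 : F[X]) = 1 := one_comp
  have sig_add : ∀ p p' : F[X], sig N (p + p') = sig N p + sig N p' := fun p p' => add_comp
  have hkill_d : ∀ b : blk (du f, m), sig N (f ^ m) • b = 0 := fun b => by
    have := sig_du_kill hdm hdi hd0 hNd b
    rwa [du_du hfm h0] at this
  have hra : ∀ a : blk (f, m), r • a = g1 • a := fun a => by
    have e : r = g1 + (h1 - g1) * a' * f ^ m := by rw [hr]; linear_combination g1 * hab
    rw [e, add_smul, ← smul_smul _ (f ^ m), blk_kill, smul_zero, add_zero]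
  have hrb : ∀ b : blk (du f, m), r • b = h1 • b := fun b => by
    have e : r = h1 + (g1 - h1) * b' * du f ^ m := by rw [hr]; linear_combination h1 * hab
    rw [e, add_smul, ← smul_smul _ (du f ^ m), blk_kill, smul_zero, add_zero]
  have hsa : ∀ a : blk (f, m), sig N r • a = g1 ^ (M - 1) • a := fun a => by
    have e : r = h1 + (g1 - h1) * b' * du f ^ m := by rw [hr]; linear_combination h1 * hab
    rw [e, sig_add, add_smul, sig_mul, ← smul_smul _ (sig N (du f ^ m)), sig_du_kill hfm hfi h0 hNf, smul_zero,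
      add_zero, hh1, sig_sig hNf]
  have hsb : ∀ b : blk (du f, m), sig N r • b = sig N g1 • b := fun b => by
    have e : r = g1 + (h1 - g1) * a' * f ^ m := by rw [hr]; linear_combination g1 * hab
    rw [e, sig_add, add_smul, sig_mul, ← smul_smul _ (sig N (f ^ m)), hkill_d, smul_zero, add_zero]
  have hsig1 : ∀ (h : F[X]), f ^ m ∣ h - 1 → ∀ b : blk (du f, m), sig N h • b = b := fun h hh b => by
    obtain ⟨p, hp⟩ := hh
    rw [show h = 1 + p * f ^ m by rw [mul_comm, ← hp]; ring, sig_add, sig_one, sig_mul, add_smul, one_smul,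
      ← smul_smul, hkill_d, smul_zero, add_zero]
  have hpa : ∀ (i : ℕ) (a : blk (f, m)), r ^ i • a = g1 ^ i • a := by
    intro i
    induction i with
    | zero => simp
    | succ i ih => intro a; rw [pow_succ, ← smul_smul, hra, ih, smul_smul, ← pow_succ]
  have hpb : ∀ (i : ℕ) (b : blk (du f, m)), r ^ i • b = sig N (g1 ^ ((M - 1) * i)) • b := by
    intro i
    induction i with
    | zero => intro b; rw [pow_zero, one_smul, Nat.mul_zero, pow_zero, sig_one, one_smul]
    | succ i ih =>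
      intro b
      rw [pow_succ, ← smul_smul, hrb, ih, smul_smul, hh1, ← sig_mul, ← pow_add, Nat.mul_succ]
  refine ⟨r, M, ∑ i ∈ Finset.range m, (q ^ d) ^ i, d * m, 1, Nat.Odd.sub_odd hodd.pow odd_one, hM2, ?_, ?_, Or.inl rfl,
    ?_, ?_, ?_, ?_, fun i hi0 hiM z hz => ?_⟩
  · obtain ⟨e, he⟩ : ∃ e, q ^ d = q * e := ⟨q ^ (d - 1), by rw [← pow_succ', Nat.sub_add_cancel hd1]⟩
    refine Nat.coprime_of_dvd fun p hp hpq hpM => hp.not_dvd_one ?_
    have h1 : p ∣ q ^ d := he ▸ dvd_mul_of_dvd_left hpq e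
    have h2 := Nat.dvd_sub h1 hpM
    rwa [hM, show q ^ d - (q ^ d - 1) = 1 by omega] at h2
  · rw [Finset.odd_sum_iff_odd_card_odd, Finset.filter_true_of_mem fun i _ => (hodd.pow).pow, Finset.card_range]
    exact hm
  · have hqd : 1 ≤ q ^ d := by omega
    rw [hM, Nat.cast_sub hqd, Nat.cast_sum]
    push_cast
    rw [pow_mul, mul_geom_sum]
  · haveI : Module.Finite F (blk (f, m)) := (hfm.pow m).finite_quotient
    haveI : Module.Finite F (blk (du f, m)) := (hdm.pow m).finite_quotient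
    rw [Module.finrank_prod, finrank_blk hfm, finrank_blk hdm, natDegree_du h0]
    ring
  · intro a b
    rw [hB.adj hN, smul_smul]
    congr 1
    obtain ⟨b₁, b₂⟩ := b
    rw [Prod.smul_mk]
    refine Prod.ext ?_ ?_
    · show (sig N r * r) • b₁ = b₁
      rw [← smul_smul, hra, hsa, smul_smul, ← pow_succ, Nat.sub_add_cancel (by omega)]
      exact smul_eq_of_dvd hg1M b₁
    · show (sig N r * r) • b₂ = b₂
      rw [mul_comm, ← smul_smul, hsb, hrb, smul_smul, hh1, ← sig_mul, ← pow_succ, Nat.sub_add_cancel (by omega)]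
      exact hsig1 _ hg1M b₂
  · rintro ⟨a₁, a₂⟩
    rw [Prod.smul_mk]
    refine Prod.ext ?_ ?_
    · show r ^ M • a₁ = a₁
      rw [hpa]
      exact smul_eq_of_dvd hg1M a₁
    · show r ^ M • a₂ = a₂
      rw [hpb, mul_comm, pow_mul]
      refine hsig1 _ ?_ a₂
      exact hg1M.trans (sub_one_dvd_pow_sub_one _ _)
  · obtain ⟨z₁, z₂⟩ := z
    rw [Prod.smul_mk, Prod.mk.injEq, hpa, hpb] at hz
    have key : ∀ e : ℕ, ¬ M ∣ e → IsCoprime (g1 ^ e - 1) (f ^ m) := fun e he => by
      refine coprime_of_not_dvd hfi (fun hd => he ?_) m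
      rw [hg1, ← pow_mul, hg] at hd
      refine (Nat.Coprime.pow_right m ?_).dvd_of_dvd_mul_left hd
      refine Nat.coprime_of_dvd fun p hp hpM hpq => hp.not_dvd_one ?_
      have h1 : p ∣ q ^ d := hpq.trans (dvd_pow_self q (by omega))
      have h2 := Nat.dvd_sub h1 hpM
      rwa [hM, show q ^ d - (q ^ d - 1) = 1 by omega] at h2
    have hni : ¬ M ∣ i := fun h => by have := Nat.le_of_dvd hi0 h; omega
    have hni' : ¬ M ∣ (M - 1) * i := fun h => hni (by
      have e : Nat.Coprime M (M - 1) := by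
        refine Nat.coprime_of_dvd fun p hp h1 h2 => hp.not_dvd_one ?_
        have := Nat.dvd_sub h1 h2
        rwa [show M - (M - 1) = 1 by omega] at this
      exact e.dvd_of_dvd_mul_left h)
    refine Prod.ext (eq_zero_of_coprime (key i hni) ?_) ?_
    · rw [sub_smul, one_smul, sub_eq_zero]; exact hz.1
    · obtain ⟨c, c', hcc⟩ := key _ hni'
      show z₂ = 0
      have hz2 : sig N (g1 ^ ((M - 1) * i) - 1) • z₂ = 0 := by
        rw [sig, sub_comp, one_comp, sub_smul, one_smul, sub_eq_zero]; exact hz.2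
      calc z₂ = sig N (c * (g1 ^ ((M - 1) * i) - 1) + c' * f ^ m) • z₂ := by rw [hcc, sig_one, one_smul]
        _ = 0 := by rw [sig_add, sig_mul, sig_mul, add_smul, ← smul_smul, ← smul_smul, hz2, hkill_d, smul_zero,
            smul_zero, add_zero]

end OddClassCount2560
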