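import Mathlib
import Cfsg.Agent.OrthClassCount.Classify
import Cfsg.Agent.OddClassCount.Torus

/-!
Splitting off a prescribed part without eigenvalue `±1`.
-/

set_option autoImplicit false
set_option linter.unusedSectionVars false

universe u

namespace OddClassCount2560

open Polynomial Module GLClassCount2478 OrthClassCount2558
open SpClassCount2482 (du du_monic du_irreducible du_du du_coeff_zero X_sub_C_SR SR)

variable {F : Type u} [Field F] [Fintype F]

/-- what is looked for -/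
def HasTorus (X : SObj F) : Prop :=
  ∃ (P : SObj F) (φ : P.M →ₗ[F[X]] X.M), (∀ a b, X.B (φ a) (φ b) = P.B a b) ∧ IsTorus P.B

lemma hasTorus_of_pull {X : SObj F} {N' : Type u} [AddCommGroup N'] [Module F N'] [Module F[X] N']
    [IsScalarTower F F[X] N'] [Finite N'] {φ : N' →ₗ[F[X]] X.M} (hnd : Nondeg (pull X.B φ))
    (ht : IsTorus (pull X.B φ)) : HasTorus X :=
  ⟨⟨N', pull X.B φ, X.inv.pull φ, hnd⟩, φ, fun _ _ => rfl, ht⟩

lemma HasTorus.of_split {X Y : SObj F} {N' : Type u} [AddCommGroup N'] [Module F N'] [Module F[X] N']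
    [IsScalarTower F F[X] N'] {B₁ : N' →ₗ[F] N' →ₗ[F] F} (Φ : (N' × Y.M) ≃ₗ[F[X]] X.M)
    (hΦ : ∀ a b, X.B (Φ a) (Φ b) = B₁ a.1 b.1 + Y.B a.2 b.2) (h : HasTorus Y) : HasTorus X := by
  obtain ⟨P, φ, hφ, ht⟩ := h
  refine ⟨P, Φ.toLinearMap.comp ((LinearMap.inr F[X] N' Y.M).comp φ), fun a b => ?_, ht⟩
  show X.B (Φ (0, φ a)) (Φ (0, φ b)) = _
  rw [hΦ, map_zero, zero_add]
  exact hφ a b

theorem exists_torus (hodd : Odd (Fintype.card F)) (h2 : (2 : F) ≠ 0) {f : F[X]} {m : ℕ} (hm : Odd m)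
    (hf1 : f ≠ Polynomial.X - C 1) (hfn1 : f ≠ Polynomial.X - C (-1)) :
    ∀ (n : ℕ) (D : Multiset (F[X] × ℕ)), D.card = n → (∀ x ∈ D, x.1.Monic ∧ Irreducible x.1 ∧ 1 ≤ x.2) →
      (f, m) ∈ D → ∀ X : SObj F, HasData X.M D → HasTorus X := by
  classical
  intro n
  induction n using Nat.strong_induction_on with
  | _ n ih =>
  intro D hn hD hfD X hX
  obtain ⟨⟨g, k⟩, hmem, hmax⟩ := Finset.exists_max_image D.toFinset Prod.snd ⟨_, Multiset.mem_toFinset.2 hfD⟩
  rw [Multiset.mem_toFinset] at hmem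
  replace hmax : ∀ x ∈ D, x.2 ≤ k := fun x hx => hmax x (Multiset.mem_toFinset.2 hx)
  obtain ⟨hgm, hgi, hk⟩ : g.Monic ∧ Irreducible g ∧ 1 ≤ k := hD _ hmem
  obtain ⟨N, hN⟩ := exists_period X
  have h0 : g.coeff 0 ≠ 0 := by
    intro h0
    obtain ⟨u, hu, hu'⟩ := exists_top hX hgm hgi hk hmem
    have hgX : g = Polynomial.X := eq_of_monic_of_associated hgm monic_X
      (irreducible_X.associated_of_dvd hgi (X_dvd_iff.2 h0)).symm
    refine hu' ?_
    rw [hgX] at hu ⊢
    have hN1 := hN.1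
    calc (Polynomial.X : F[X]) ^ (k - 1) • u = (Polynomial.X : F[X]) ^ (N - 1) • ((Polynomial.X : F[X]) ^ k • u) := by
          rw [smul_smul, ← pow_add]
          exact (hN.mod (k := 1) (by omega) u).symm
      _ = 0 := by rw [hu, smul_zero]
  -- remove a piece and continue
  have recur : ∀ {N' : Type u} [AddCommGroup N'] [Module F N'] [Module F[X] N'] [IsScalarTower F F[X] N'] [Finite N']
      {E : Multiset (F[X] × ℕ)} (_ : HasData N' E) (_ : E ≠ 0) (_ : ∀ x ∈ E, x.1.Monic ∧ Irreducible x.1 ∧ x.2 = k)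
      (φ : N' →ₗ[F[X]] X.M), Nondeg (pull X.B φ) → (f, m) ∉ E → HasTorus X := by
    intro N' _ _ _ _ _ E hN' hEne hE φ hφ hfE
    obtain ⟨Y, Φ, -, hΦ⟩ := exists_split X φ hφ
    obtain ⟨D', hD', hY⟩ := data_split hX hN' Φ hk hE hmax
    refine HasTorus.of_split Φ hΦ (ih D'.card ?_ D' rfl
      (fun x hx => hD x (by rw [hD']; exact Multiset.mem_add.2 (Or.inr hx))) ?_ Y hY)
    · rw [← hn, hD', Multiset.card_add]
      have := Multiset.card_pos.2 hEne
      omega
    · rw [hD'] at hfD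
      exact (Multiset.mem_add.1 hfD).resolve_left hfE
  obtain ⟨u, hu, hu'⟩ := exists_top hX hgm hgi hk hmem
  obtain ⟨w, hw, huw⟩ := exists_partner X.inv hN X.nd hu hu' (fun x hx =>
    data_max_stable hX (du_monic h0) (du_irreducible hgm h0 hgi) hmax x hx)
  haveI := finite_blk (m := k) hgm
  by_cases hdu : du g = g
  swap
  · have hdm := du_monic h0
    have hdi := du_irreducible hgm h0 hgi
    haveI := finite_blk (m := k) hdm
    have hnd := nondeg_pair_ne X.inv hN hgm h0 hgi hdu hu hw huw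
    by_cases hfE : (f, m) ∈ ({(g, k)} + {(du g, k)} : Multiset (F[X] × ℕ))
    · have hkm : k = m := by
        simp only [Multiset.mem_add, Multiset.mem_singleton, Prod.mk.injEq] at hfE
        rcases hfE with h | h <;> exact h.2.symm
      subst hkm
      exact hasTorus_of_pull hnd (torus_pair hodd hgm hgi h0 hdu hm (X.inv.pull _)
        (Period.of_injective (injective_of_nondeg hnd) hN))
    · refine recur ((hasData_blk hgm hgi k).prod (hasData_blk hdm hdi k)) (by simp) (fun x hx => ?_) _ hnd hfE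
      simp only [Multiset.mem_add, Multiset.mem_singleton] at hx
      rcases hx with rfl | rfl
      · exact ⟨hgm, hgi, rfl⟩
      · exact ⟨hdm, hdi, rfl⟩
  rw [hdu] at hw
  by_cases hbad : ∃ ε : F, ε * ε = 1 ∧ g = Polynomial.X - C ε ∧ ¬ Odd k
  · obtain ⟨ε, hε, rfl, hev⟩ := hbad
    rw [Nat.not_odd_iff_even] at hev
    set c := X.B ((Polynomial.X - C ε) ^ (k - 1) • u) w with hc
    have hw' : (Polynomial.X - C ε) ^ k • (c⁻¹ • w) = 0 := by rw [smul_comm, hw, smul_zero]
    have huw' : X.B ((Polynomial.X - C ε) ^ (k - 1) • u) (c⁻¹ • w) = 1 := by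
      rw [map_smul, smul_eq_mul, ← hc, inv_mul_cancel₀ huw]
    obtain ⟨hnd, -, -, -⟩ := nondeg_pair_one X.inv hN h2 hε hev hk hu hw' huw'
    refine recur ((hasData_blk hgm hgi k).prod (hasData_blk hgm hgi k)) (by simp) (fun x hx => ?_) _ hnd ?_
    · simp only [Multiset.mem_add, Multiset.mem_singleton, or_self] at hx
      subst hx
      exact ⟨hgm, hgi, rfl⟩
    · simp only [Multiset.mem_add, Multiset.mem_singleton, or_self, Prod.mk.injEq]
      rintro ⟨-, rfl⟩
      exact Nat.not_odd_iff_even.2 hev hm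
  push Not at hbad
  obtain ⟨u', hu'', r, hr⟩ := exists_cyclic X.inv hN h2 hgm hgi hdu hk hbad hu hw huw
  have hnd := nondeg_cyclic X.inv hN hgi hu'' r hr
  by_cases hfE : (f, m) = (g, k)
  · obtain ⟨rfl, rfl⟩ := Prod.mk.inj hfE
    exact hasTorus_of_pull hnd (torus_self hodd h2 hgm hgi h0 hdu hf1 hfn1 hm (X.inv.pull _)
      (Period.of_injective (injective_of_nondeg hnd) hN))
  · refine recur (hasData_blk hgm hgi k) (by simp) (fun x hx => ?_) _ hnd (by rwa [Multiset.mem_singleton])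
    rw [Multiset.mem_singleton.1 hx]
    exact ⟨hgm, hgi, rfl⟩

end OddClassCount2560
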