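import Mathlib
import Cfsg.Agent.OrthClassCount.Count
import Cfsg.Agent.OddClassCount.Arith
import Cfsg.Agent.OddClassCount.Piece

/-!
Classes and classes without spinor witness in odd dimension.
-/

set_option autoImplicit false
set_option linter.unusedSectionVars false

universe u

namespace OddClassCount2560

open Polynomial OrthClassCount2558
open SpClassCount2482 (SR SR_one mem_srSet wk X_sub_C_SR)

variable {F : Type u} [Field F] [Fintype F] {G : Type*} [Group G]

/-- entries with no roots other than `±1` in odd parts -/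
noncomputable def partS (F : Type u) [Field F] [Fintype F] (k m : ℕ) : Finset F[X] := by
  classical
  exact if k % 2 = 0 then partE F k m
    else (Finset.range (m + 1)).image fun a => (X - C 1) ^ a * (X - C (-1)) ^ (m - a)

lemma sum_partS_le (h2 : (2 : F) ≠ 0) (k m : ℕ) : ∑ f ∈ partS F k m, wO k f ≤ valS (Fintype.card F) k m := by
  classical
  rw [partS, valS]
  split_ifs with hk hm hm'
  · simp only [wO, if_neg (show ¬ k % 2 = 1 by omega), ← Finset.card_eq_sum_ones]
    exact (card_partE_le h2 k m).trans (le_of_eq (if_pos hm))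
  · simp only [wO, if_neg (show ¬ k % 2 = 1 by omega), ← Finset.card_eq_sum_ones]
    exact (card_partE_le h2 k m).trans (le_of_eq (if_neg hm))
  · subst hm'
    simp [wO, wk]
  · refine (Finset.sum_image_le_of_nonneg fun x _ => Nat.zero_le _).trans ?_
    obtain ⟨l, rfl⟩ : ∃ l, m = l + 1 := ⟨m - 1, by omega⟩
    have hne : (1 : F) ≠ -1 := fun h => h2 (by linear_combination h)
    have hw : ∀ a ∈ Finset.range (l + 1 + 1), wO k ((X - C (1 : F)) ^ a * (X - C (-1)) ^ (l + 1 - a)) =
        (if a = 0 then 1 else 2) * (if a = l + 1 then 1 else 2) := by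
      intro a ha
      rw [Finset.mem_range] at ha
      rw [wO, if_pos (by omega), wk]
      congr 1
      · by_cases h : a = 0
        · subst h
          simp [sub_ne_zero.2 hne, sub_ne_zero.2 hne.symm, one_add_one_eq_two, h2]
        · rw [if_neg h, if_pos]; simp [h]
      · by_cases h : a = l + 1
        · subst h
          simp [sub_ne_zero.2 hne, sub_ne_zero.2 hne.symm, one_add_one_eq_two, h2]
        · rw [if_neg h, if_pos]; simp [show l + 1 - a ≠ 0 by omega]
    rw [Finset.sum_congr rfl hw, Finset.sum_range_succ, Finset.sum_range_succ']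
    have hmid : ∀ a ∈ Finset.range l, (if a + 1 = 0 then 1 else 2) * (if a + 1 = l + 1 then 1 else 2) = 4 := by
      intro a ha
      rw [Finset.mem_range] at ha
      rw [if_neg (by omega), if_neg (by omega)]
    rw [Finset.sum_congr rfl hmid, Finset.sum_const, Finset.card_range, smul_eq_mul]
    simp
    omega

lemma rest_props {P : ℕ → ℕ → Finset F[X]} (hP : ∀ k m, ∀ f ∈ P k m, f.natDegree = m) (h1 : (1 : F[X]) ∈ P 1 0) :
    ∀ j i, ∀ r ∈ rest P j i, (∀ k : Fin (j + 1), r k ∈ P ((k : ℕ) + 1) (r k).natDegree) ∧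
      ∑ k : Fin (j + 1), ((k : ℕ) + 1) * (r k).natDegree = i
  | 0, i, r, hr => by
    simp only [rest] at hr
    split_ifs at hr with h
    · rw [Finset.mem_singleton.1 hr]
      refine ⟨fun k => ?_, by simp [h]⟩
      rw [Fin.fin_one_eq_zero k, natDegree_one]
      exact h1
    · simp at hr
  | j + 1, i, r, hr => by
    classical
    simp only [rest, Finset.mem_biUnion, Finset.mem_image, Finset.mem_product, Finset.mem_range] at hr
    obtain ⟨m, hm, ⟨p, v⟩, ⟨hp, hv⟩, rfl⟩ := hr
    obtain ⟨hv1, hv2⟩ := rest_props hP h1 j _ v hv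
    refine ⟨fun k => ?_, ?_⟩
    · induction k using Fin.lastCases with
      | last => rw [Fin.snoc_last, Fin.val_last, hP _ _ _ hp]; exact hp
      | cast k => rw [Fin.snoc_castSucc, Fin.val_castSucc]; exact hv1 k
    · rw [Fin.sum_univ_castSucc]
      simp only [Fin.snoc_castSucc, Fin.snoc_last, Fin.val_castSucc, Fin.val_last]
      rw [hv2, hP _ _ _ hp, show j + 1 + 1 = j + 2 from rfl]
      rw [Nat.lt_succ_iff, Nat.le_div_iff_mul_le (by omega), mul_comm] at hm
      omega

lemma allT_props {P : ℕ → ℕ → Finset F[X]} (hP : ∀ k m, ∀ f ∈ P k m, f.natDegree = m) (h1 : (1 : F[X]) ∈ P 1 0)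
    {N j : ℕ} {v : Fin (j + 1) → F[X]} (hv : v ∈ allT P N j) :
    (∀ k : Fin (j + 1), v k ∈ P ((k : ℕ) + 1) (v k).natDegree) ∧
      ∑ k : Fin (j + 1), ((k : ℕ) + 1) * (v k).natDegree = N := by
  classical
  simp only [allT, Finset.mem_biUnion, Finset.mem_image, Finset.mem_range] at hv
  obtain ⟨i, hi, r, hr, p, hp, rfl⟩ := hv
  obtain ⟨h3, h4⟩ := rest_props hP h1 j i r hr
  refine ⟨fun k => ?_, ?_⟩
  · by_cases hk : k = 0
    · subst hk
      rw [Function.update_self, hP _ _ _ hp]
      exact hp
    · rw [Function.update_of_ne hk]; exact h3 k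
  · rw [Fin.sum_univ_succ] at h4 ⊢
    simp only [rest_zero P j i r hr, natDegree_one, mul_zero, zero_add] at h4
    simp only [Function.update_self, Function.update_of_ne (Fin.succ_ne_zero _), Fin.val_zero, zero_add, one_mul,
      hP _ _ _ hp]
    omega

lemma deg_partT (k m : ℕ) : ∀ f ∈ partT F k m, f.natDegree = m := by
  classical
  intro f hf
  rw [partT, partE] at hf
  split_ifs at hf with h h'
  · exact (mem_srSet.1 (Finset.mem_filter.1 hf).1).2
  · simp at hf
  · exact (mem_srSet.1 hf).2

lemma prod_two_eq (s : Multiset F[X]) (h : ∀ f ∈ s, f = X - C (1 : F) ∨ f = X - C (-1)) :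
    ∃ a ≤ s.prod.natDegree, s.prod = (X - C 1) ^ a * (X - C (-1)) ^ (s.prod.natDegree - a) := by
  suffices hs : ∃ a b, s.prod = (X - C (1 : F)) ^ a * (X - C (-1)) ^ b by
    obtain ⟨a, b, e⟩ := hs
    have hd : s.prod.natDegree = a + b := by
      rw [e, ((monic_X_sub_C (1 : F)).pow a).natDegree_mul ((monic_X_sub_C (-1 : F)).pow b), natDegree_pow, natDegree_pow,
        natDegree_X_sub_C, natDegree_X_sub_C, mul_one, mul_one]
    exact ⟨a, by omega, by rw [hd, Nat.add_sub_cancel_left, ← e]⟩
  induction s using Multiset.induction_on with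
  | empty => exact ⟨0, 0, by simp⟩
  | cons f t ih =>
    obtain ⟨a, b, e⟩ := ih fun g hg => h g (Multiset.mem_cons_of_mem hg)
    rcases h f (Multiset.mem_cons_self f t) with rfl | rfl
    · exact ⟨a + 1, b, by rw [Multiset.prod_cons, e, pow_succ']; ring⟩
    · exact ⟨a, b + 1, by rw [Multiset.prod_cons, e, pow_succ']; ring⟩

open scoped Classical in
theorem card_bounds (hodd : Odd (Fintype.card F)) (h2 : (2 : F) ≠ 0) (n : ℕ) [Finite G] (S : Setup F (2 * n + 1) G)
    (surv : ConjClasses G → Prop) (hsurv : ∀ y, HasTorus (objOf S y) → ¬ surv (ConjClasses.mk y)) :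
    20 * Nat.card (ConjClasses G) + 60 * Nat.card {c // surv c} ≤ 584 * Fintype.card F ^ n := by
  have hq : 3 ≤ Fintype.card F := by
    obtain ⟨k, hk⟩ := hodd
    have := Fintype.one_lt_card (α := F)
    omega
  set q := Fintype.card F with hqdef
  have hE : ∑ v ∈ allT (partE F) (2 * n + 1) (2 * n), tw (fun _ _ => 1) v = 0 := by
    refine Nat.le_zero.1 (le_trans (sum_allT_le (val := valE q) (fun _ => rfl)
      (fun k m => by rw [← Finset.card_eq_sum_ones]; exact card_partE_le h2 k m) (rest_zero _) _ _) ?_)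
    exact (tot_valE_odd q n (2 * n)).le
  have hT := (card_classes_le h2 (2 * n) S).trans (Nat.add_le_add (sum_allT_le (val := valT q) (fun k => by simp [wO, wk])
    (sum_partT_le h2) (rest_zero _) _ _) hE.le)
  have hsel := card_sel_le h2 (2 * n) S surv
    (fun v => ∀ k : Fin (2 * n + 1), ((k : ℕ) + 1) % 2 = 1 → v k ∈ partS F ((k : ℕ) + 1) (v k).natDegree)
    (fun y D hy hD hdata k hk => by
      rw [partS, if_neg (by omega)]
      obtain ⟨a, ha, e⟩ := prod_two_eq ((D.filter fun x => x.2 = (k : ℕ) + 1).map Prod.fst) (fun f hf => by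
        obtain ⟨⟨g, m⟩, hx, rfl⟩ := Multiset.mem_map.1 hf
        obtain ⟨hxD, rfl⟩ := Multiset.mem_filter.1 hx
        by_contra hne
        push Not at hne
        exact hsurv y (exists_torus hodd h2 (Nat.odd_iff.2 hk) hne.1 hne.2 _ D rfl hD hxD (objOf S y) hdata) hy)
      exact Finset.mem_image.2 ⟨a, Finset.mem_range.2 (Nat.lt_succ_of_le ha), e.symm⟩)
  have hsubS : ∀ v ∈ allT (partT F) (2 * n + 1) (2 * n),
      (∀ k : Fin (2 * n + 1), ((k : ℕ) + 1) % 2 = 1 → v k ∈ partS F ((k : ℕ) + 1) (v k).natDegree) →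
      v ∈ allT (partS F) (2 * n + 1) (2 * n) := by
    intro v hv hPr
    obtain ⟨hk, hsum⟩ := allT_props deg_partT
      (by rw [partT, if_neg (by omega)]; exact mem_srSet.2 ⟨SR_one, natDegree_one⟩) hv
    refine mem_allT _ v (fun k => ?_) ?_ hsum
    · rcases Nat.mod_two_eq_zero_or_one ((k : ℕ) + 1) with h | h
      · have := hk k
        rw [partT, if_pos h] at this
        rw [partS, if_pos h]
        exact this
      · exact hPr k h
    · rw [partS, if_neg (by omega)]
      simp
  have hS := hsel.trans (Nat.add_le_add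
    ((Finset.sum_le_sum_of_subset fun v hv => by
      simp only [Finset.mem_filter] at hv
      exact hsubS v hv.1 hv.2).trans (sum_allT_le (val := valS q) (fun k => by simp [wO, wk])
      (sum_partS_le h2) (rest_zero _) _ _))
    ((Finset.sum_le_sum_of_subset fun v hv => by
      simp only [Finset.mem_filter] at hv
      exact hv.1).trans hE.le))
  have htot := total_le hq n
  simp only [tot] at htot
  omega

end OddClassCount2560
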