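import Mathlib
import Cfsg.Agent.OrthClassCount.Disc
import Cfsg.Agent.Lib.Classical.OrthForms

/-!
Level sets of quadratic forms of odd dimension and signs of free cyclic actions.
-/

set_option autoImplicit false
set_option linter.unusedSectionVars false

universe u

namespace OddClassCount2560

open OrthClassCount2558
open Cfsg.Agent.Forms (Disc.gram Disc.exists_isometry Disc.det_gram_ne_zero)
open Cfsg.Agent.Forms.PlusStd (plusQ plusQ_apply plusQ_nondeg)

variable {F : Type u} [Field F] [Fintype F]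

/-- forms of one discriminant class are isometric -/
theorem exists_equiv_of_dsc (h2 : (2 : F) ≠ 0) {V W : Type u} [AddCommGroup V] [Module F V] [Finite V]
    [AddCommGroup W] [Module F W] [Finite W] {B : V →ₗ[F] V →ₗ[F] F} {B' : W →ₗ[F] W →ₗ[F] F}
    (hs : ∀ x y, B x y = B y x) (hn : Nondeg B) (hs' : ∀ x y, B' x y = B' y x) (hn' : Nondeg B')
    (hr : Module.finrank F V = Module.finrank F W) (hd : dsc B = dsc B') :
    ∃ e : V ≃ₗ[F] W, ∀ x y, B' (e x) (e y) = B x y := by
  classical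
  haveI : Module.Finite F V := Module.Finite.of_finite
  haveI : Module.Finite F W := Module.Finite.of_finite
  have hB : LinearMap.BilinForm.Nondegenerate B := ⟨hn, fun y hy => hn y fun x => (hs y x).trans (hy x)⟩
  have hB' : LinearMap.BilinForm.Nondegenerate B' := ⟨hn', fun y hy => hn' y fun x => (hs' y x).trans (hy x)⟩
  exact Disc.exists_isometry h2 B ⟨hs⟩ hB B' ⟨hs'⟩ hB' hr (Module.finBasis F V) (Module.finBasis F W)
    (isSquare_of_chi_eq (Disc.det_gram_ne_zero hB _) (Disc.det_gram_ne_zero hB' _) hd)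

lemma plus_levels (a : ℕ) :
    ∃ N : ℕ, (∀ e : F, e ≠ 0 → Nat.card {u : Fin a ⊕ Fin a → F // plusQ F a u = e} = N) ∧
      (Fintype.card F : ℤ) * N = (Fintype.card F : ℤ) ^ (2 * a) - (Fintype.card F : ℤ) ^ a ∧
      (Fintype.card F : ℤ) * Nat.card {u : Fin a ⊕ Fin a → F // plusQ F a u = 0} =
        (Fintype.card F : ℤ) * N + (Fintype.card F : ℤ) ^ (a + 1) := by
  classical
  set q := Fintype.card F with hq
  have hscale : ∀ e : F, e ≠ 0 → Nat.card {u : Fin a ⊕ Fin a → F // plusQ F a u = e} =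
      Nat.card {u : Fin a ⊕ Fin a → F // plusQ F a u = 1} := by
    intro e he
    refine Nat.card_congr (Equiv.subtypeEquiv
      { toFun := fun u => Sum.elim (fun i => e⁻¹ * u (Sum.inl i)) (fun i => u (Sum.inr i))
        invFun := fun u => Sum.elim (fun i => e * u (Sum.inl i)) (fun i => u (Sum.inr i))
        left_inv := fun u => funext fun x => by rcases x with i | i <;> simp [he]
        right_inv := fun u => funext fun x => by rcases x with i | i <;> simp [he] } fun u => ?_)
    simp only [Equiv.coe_fn_mk, plusQ_apply, Cfsg.quadFormPlus, Sum.elim_inl, Sum.elim_inr, mul_assoc, ← Finset.mul_sum]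
    rw [inv_mul_eq_one₀ he, eq_comm]
  refine ⟨Nat.card {u : Fin a ⊕ Fin a → F // plusQ F a u = 1}, hscale, ?_⟩
  set Z := Nat.card {u : Fin a ⊕ Fin a → F // plusQ F a u = 0} with hZ
  set N := Nat.card {u : Fin a ⊕ Fin a → F // plusQ F a u = 1} with hN
  have hz := Cfsg.Agent.Classical.OrthForms.cast_zeros_plus (F := F) hq.symm a
  rw [show Cfsg.Agent.Classical.OrthCount.zeros ⇑(plusQ F a) = Z from rfl] at hz
  have hsum : Z + (q - 1) * N = q ^ (2 * a) := by
    have h : Nat.card (Σ e : F, {u : Fin a ⊕ Fin a → F // plusQ F a u = e}) = q ^ (2 * a) := by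
      rw [Nat.card_congr (Equiv.sigmaFiberEquiv fun u => plusQ F a u), Nat.card_fun, Nat.card_eq_fintype_card (α := F),
        Nat.card_eq_fintype_card, Fintype.card_sum, Fintype.card_fin, two_mul]
    rw [Nat.card_sigma, ← Finset.add_sum_erase _ _ (Finset.mem_univ (0 : F))] at h
    rw [Finset.sum_congr rfl fun e he => hscale e (Finset.ne_of_mem_erase he), Finset.sum_const,
      Finset.card_erase_of_mem (Finset.mem_univ _), Finset.card_univ, smul_eq_mul] at h
    exact h
  have hq1 : 1 < q := Fintype.one_lt_card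
  have hsum' : (Z : ℤ) + ((q : ℤ) - 1) * N = (q : ℤ) ^ (2 * a) := by
    have := congrArg (Nat.cast : ℕ → ℤ) hsum
    push_cast [Nat.cast_sub hq1.le] at this
    exact this
  have h1 : (q : ℤ) * N = (q : ℤ) ^ (2 * a) - (q : ℤ) ^ a := by
    refine mul_left_cancel₀ (show ((q : ℤ) - 1) ≠ 0 by omega) ?_
    linear_combination (q : ℤ) * hsum' - hz
  refine ⟨h1, ?_⟩
  linear_combination hz - h1

/-- level sets in odd dimension -/
theorem levels (h2 : (2 : F) ≠ 0) {V : Type u} [AddCommGroup V] [Module F V] [Finite V] {B : V →ₗ[F] V →ₗ[F] F}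
    (hs : ∀ x y, B x y = B y x) (hn : Nondeg B) {a : ℕ} (hr : Module.finrank F V = 2 * a + 1) {c : F} (hc : c ≠ 0) :
    ∃ η : ℤ, (η = 1 ∨ η = -1) ∧
      (Nat.card {x : V // B x x = c} : ℤ) = (Fintype.card F : ℤ) ^ a * ((Fintype.card F : ℤ) ^ a + η) := by
  classical
  set q := Fintype.card F with hq
  let P : (Fin a ⊕ Fin a → F) →ₗ[F] (Fin a ⊕ Fin a → F) →ₗ[F] F := QuadraticMap.polarBilin (plusQ F a)
  have hPs : ∀ x y, P x y = P y x := fun x y => QuadraticMap.polar_comm _ x y
  have hPn : Nondeg P := (plusQ_nondeg F a).1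
  have hP0 : dsc P ≠ 0 := dsc_ne_zero hPs hPn
  have hB0 : dsc B ≠ 0 := dsc_ne_zero hs hn
  obtain ⟨d, hd, hdd⟩ : ∃ d : F, d ≠ 0 ∧ dsc P * chi d = dsc B := by
    obtain ⟨z, hz, hz'⟩ := exists_nonsquare h2
    have hP1 : dsc P = 1 ∨ dsc P = -1 := by
      haveI : Module.Finite F (Fin a ⊕ Fin a → F) := inferInstance
      exact chi_cases (Disc.det_gram_ne_zero (plusQ_nondeg F a) _)
    have hB1 : dsc B = 1 ∨ dsc B = -1 := by
      haveI : Module.Finite F V := Module.Finite.of_finite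
      exact chi_cases (Disc.det_gram_ne_zero ⟨hn, fun y hy => hn y fun x => (hs y x).trans (hy x)⟩ _)
    rcases hP1 with e | e <;> rcases hB1 with e' | e' <;> rw [e, e']
    · exact ⟨1, one_ne_zero, by rw [chi_one, mul_one]⟩
    · exact ⟨z, hz, by rw [hz', one_mul]⟩
    · exact ⟨z, hz, by rw [hz', neg_one_mul, neg_neg]⟩
    · exact ⟨1, one_ne_zero, by rw [chi_one, mul_one]⟩
  let D : F →ₗ[F] F →ₗ[F] F := d • LinearMap.mul F F
  let B' : ((Fin a ⊕ Fin a → F) × F) →ₗ[F] ((Fin a ⊕ Fin a → F) × F) →ₗ[F] F :=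
    P.compl₁₂ (LinearMap.fst F _ F) (LinearMap.fst F _ F) + D.compl₁₂ (LinearMap.snd F _ F) (LinearMap.snd F _ F)
  have hB' : ∀ x y, B' x y = P x.1 y.1 + d * (x.2 * y.2) := fun x y => rfl
  have hs' : ∀ x y, B' x y = B' y x := fun x y => by rw [hB', hB', hPs, mul_comm x.2]
  have hn' : Nondeg B' := fun x hx => by
    refine Prod.ext (hPn _ fun y => ?_) ?_
    · have := hx (y, 0); rwa [hB', mul_zero, mul_zero, add_zero] at this
    · have := hx (0, 1)
      rw [hB', map_zero, zero_add, mul_one] at this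
      exact (mul_eq_zero.1 this).resolve_left hd
  have hdD : dsc D = chi d := by
    rw [dsc_eq D (Module.Basis.singleton Unit F)]
    congr 1
    rw [Matrix.det_unique]
    simp [Disc.gram, D]
  have hdsc : dsc B' = dsc B := by
    rw [dsc_orth (B := B') (B₁ := P) (B₂ := D) (LinearEquiv.refl F _) (fun x y => rfl), hdD, hdd]
  have hrank : Module.finrank F ((Fin a ⊕ Fin a → F) × F) = Module.finrank F V := by
    rw [hr, Module.finrank_prod, Module.finrank_pi, Module.finrank_self, Fintype.card_sum, Fintype.card_fin]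
    ring
  obtain ⟨e, he⟩ := exists_equiv_of_dsc h2 hs' hn' hs hn hrank hdsc
  obtain ⟨N, hN, hN1, hN0⟩ := plus_levels (F := F) a
  set Z := Nat.card {u : Fin a ⊕ Fin a → F // plusQ F a u = 0} with hZ
  have hcard : Nat.card {x : V // B x x = c} =
      ∑ t : F, Nat.card {u : Fin a ⊕ Fin a → F // plusQ F a u = (c - d * (t * t)) / 2} := by
    rw [← Nat.card_sigma]
    refine (Nat.card_congr (((Equiv.sigmaCongrRight fun t => Equiv.subtypeEquivRight fun u => ?_).trans
      ((Equiv.subtypeProdEquivSigmaSubtype fun (t : F) (u : Fin a ⊕ Fin a → F) => B' (u, t) (u, t) = c).symm)).trans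
      (((Equiv.prodComm F (Fin a ⊕ Fin a → F)).trans e.toEquiv).subtypeEquiv fun z => ?_))).symm
    · rw [hB']
      show plusQ F a u = _ ↔ QuadraticMap.polar (plusQ F a) u u + d * (t * t) = c
      rw [QuadraticMap.polar_self, nsmul_eq_mul, Nat.cast_ofNat, eq_div_iff h2, eq_sub_iff_add_eq, mul_comm]
    · show B' (z.2, z.1) (z.2, z.1) = c ↔ B (e (z.2, z.1)) (e (z.2, z.1)) = c
      rw [he]
  set T := Finset.univ.filter fun t : F => c - d * (t * t) = 0 with hT
  have hval : ∀ t, (q : ℤ) * Nat.card {u : Fin a ⊕ Fin a → F // plusQ F a u = (c - d * (t * t)) / 2} =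
      (q : ℤ) * N + if c - d * (t * t) = 0 then (q : ℤ) ^ (a + 1) else 0 := by
    intro t
    by_cases h0 : c - d * (t * t) = 0
    · rw [if_pos h0, h0, zero_div]
      exact hN0
    · rw [if_neg h0, add_zero, hN _ (div_ne_zero h0 h2)]
  have htot : (q : ℤ) * Nat.card {x : V // B x x = c} =
      (q : ℤ) * ((q : ℤ) ^ a * ((q : ℤ) ^ a + ((T.card : ℤ) - 1))) := by
    rw [hcard, Nat.cast_sum, Finset.mul_sum, Finset.sum_congr rfl fun t _ => hval t, Finset.sum_add_distrib,
      ← Finset.sum_filter, Finset.sum_const, Finset.sum_const, Finset.card_univ, ← hT, ← hq, nsmul_eq_mul, nsmul_eq_mul]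
    linear_combination (q : ℤ) * hN1
  refine ⟨(T.card : ℤ) - 1, ?_, mul_left_cancel₀ (Int.natCast_ne_zero.2 (Fintype.card_pos (α := F)).ne') htot⟩
  by_cases hsq : ∃ t : F, c - d * (t * t) = 0
  · obtain ⟨t, ht⟩ := hsq
    have ht0 : t ≠ 0 := fun h => hc (by rw [h] at ht; simpa using ht)
    have : T = {t, -t} := by
      ext s
      simp only [hT, Finset.mem_filter, Finset.mem_univ, true_and, Finset.mem_insert, Finset.mem_singleton]
      constructor
      · intro h
        refine mul_self_eq_mul_self_iff.1 (mul_left_cancel₀ hd ?_)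
        linear_combination ht - h
      · rintro (rfl | rfl)
        · exact ht
        · rwa [neg_mul_neg]
    refine Or.inl ?_
    rw [this, Finset.card_pair]
    · norm_num
    · intro h
      exact ht0 ((mul_eq_zero.1 (show (2 : F) * t = 0 by linear_combination h)).resolve_left h2)
  · refine Or.inr ?_
    have : T = ∅ := Finset.filter_eq_empty_iff.2 fun t _ h => hsq ⟨t, h⟩
    rw [this]
    simp

/-- the sign of a free cyclic action away from fixed points -/
theorem sign_free {α : Type*} [Fintype α] [DecidableEq α] (σ : Equiv.Perm α) {M : ℕ} (hM : Even M) (hM0 : 0 < M)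
    (hpow : σ ^ M = 1) (hfree : ∀ x, σ x ≠ x → ∀ i, 0 < i → i < M → (σ ^ i) x ≠ x) :
    M ∣ σ.support.card ∧ Equiv.Perm.sign σ = (-1) ^ (σ.support.card / M) := by
  have hall : ∀ k ∈ σ.cycleType, k = M := by
    intro k hk
    have h1 : k ∣ M := (Equiv.Perm.dvd_of_mem_cycleType hk).trans (orderOf_dvd_of_pow_eq_one hpow)
    have h2 := Equiv.Perm.two_le_of_mem_cycleType hk
    rw [Equiv.Perm.cycleType_def, Multiset.mem_map] at hk
    obtain ⟨c, hc, rfl⟩ := hk
    rw [Finset.mem_val, Equiv.Perm.mem_cycleFactorsFinset_iff] at hc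
    obtain ⟨x, hx⟩ : c.support.Nonempty := Finset.card_pos.1 (by simp only [Function.comp_apply] at h2; omega)
    have hσx : σ x ≠ x := by
      rw [← hc.2 x hx]
      exact Equiv.Perm.mem_support.1 hx
    have hiter : ∀ i, (σ ^ i) x = (c ^ i) x := by
      intro i
      induction i with
      | zero => rfl
      | succ i ih =>
        rw [pow_succ', pow_succ', Equiv.Perm.mul_apply, Equiv.Perm.mul_apply, ih]
        exact (hc.2 _ (Equiv.Perm.pow_apply_mem_support.2 hx)).symm
    simp only [Function.comp_apply] at h1 h2 ⊢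
    refine le_antisymm (Nat.le_of_dvd hM0 h1) (not_lt.1 fun hlt => hfree x hσx c.support.card (by omega) hlt ?_)
    rw [hiter, ← hc.1.orderOf, pow_orderOf_eq_one]
    rfl
  have hrep : σ.cycleType = Multiset.replicate σ.cycleType.card M := Multiset.eq_replicate_card.2 hall
  have hsum : σ.support.card = σ.cycleType.card * M := by
    rw [← Equiv.Perm.sum_cycleType]
    conv_lhs => rw [hrep]
    rw [Multiset.sum_replicate, smul_eq_mul]
  refine ⟨⟨σ.cycleType.card, by rw [hsum, mul_comm]⟩, ?_⟩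
  rw [Equiv.Perm.sign_of_cycleType, Equiv.Perm.sum_cycleType, hsum, Nat.mul_div_cancel _ hM0, pow_add,
    Even.neg_one_pow (hM.mul_left _), one_mul]

/-- the number of free orbits on a level set is odd -/
theorem orbits_odd {q n a j M t : ℕ} (hqo : Odd q) (hn : n = a + j) (hco : Nat.Coprime q M) (hM : 2 < M) {ε η η' : ℤ}
    (hε : ε = 1 ∨ ε = -1) (hη : η = 1 ∨ η = -1) (hη' : η' = 1 ∨ η' = -1) (ht : (M : ℤ) * t = (q : ℤ) ^ j - ε)
    (hto : Odd t) {S : ℕ} (hS : M ∣ S) (hval : (S : ℤ) = (q : ℤ) ^ n * ((q : ℤ) ^ n + η) - (q : ℤ) ^ a * ((q : ℤ) ^ a + η')) :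
    Odd (S / M) := by
  have hεε : ε * ε = 1 := by rcases hε with rfl | rfl <;> rfl
  have key : (q : ℤ) ^ n * ((q : ℤ) ^ n + η) - (q : ℤ) ^ a * ((q : ℤ) ^ a + η') =
      (q : ℤ) ^ a * (((q : ℤ) ^ j - ε) * ((q : ℤ) ^ a * ((q : ℤ) ^ j + ε) + η) + (ε * η - η')) := by
    rw [hn, pow_add]
    linear_combination ((q : ℤ) ^ a * (q : ℤ) ^ a) * hεε
  have hcop : IsCoprime ((M : ℤ)) ((q : ℤ) ^ a) := IsCoprime.pow_right (Nat.isCoprime_iff_coprime.2 hco.symm)
  have hdiff : ε * η - η' = 0 := by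
    have h1 : (M : ℤ) ∣ (q : ℤ) ^ a * (((q : ℤ) ^ j - ε) * ((q : ℤ) ^ a * ((q : ℤ) ^ j + ε) + η) + (ε * η - η')) := by
      rw [← key, ← hval]
      exact Int.natCast_dvd_natCast.2 hS
    have h2 : (M : ℤ) ∣ ε * η - η' := by
      refine (Int.dvd_add_right ?_).1 (hcop.dvd_of_dvd_mul_left h1)
      exact Dvd.dvd.mul_right (show (M : ℤ) ∣ (q : ℤ) ^ j - ε from ⟨(t : ℤ), ht.symm⟩) _
    refine Int.eq_zero_of_abs_lt_dvd h2 ?_
    rcases hε with rfl | rfl <;> rcases hη with rfl | rfl <;> rcases hη' with rfl | rfl <;>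
      norm_num <;> omega
  obtain ⟨k, rfl⟩ := hS
  rw [Nat.mul_div_cancel_left _ (by omega : 0 < M)]
  have hk : (k : ℤ) = (q : ℤ) ^ a * ((t : ℤ) * ((q : ℤ) ^ a * ((q : ℤ) ^ j + ε) + η)) := by
    refine mul_left_cancel₀ (show (M : ℤ) ≠ 0 by omega) ?_
    rw [← Nat.cast_mul, hval, key, hdiff, ← ht]
    ring
  refine Int.odd_coe_nat k |>.1 ?_
  rw [hk]
  have hqz : Odd (q : ℤ) := (Int.odd_coe_nat q).2 hqo
  have hε' : Odd ε := by rcases hε with rfl | rfl <;> decide
  have hη'' : Odd η := by rcases hη with rfl | rfl <;> decide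
  exact hqz.pow.mul (((Int.odd_coe_nat t).2 hto).mul ((Even.mul_left (hqz.pow.add_odd hε') _).add_odd hη''))

end OddClassCount2560
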