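import Mathlib
import Cfsg.Agent.OrthClassCount.Lower

/-!
Many classes in odd dimension.
-/

set_option autoImplicit false
set_option linter.unusedSectionVars false

universe u

namespace OddClassCount2560

open Polynomial Matrix OrthClassCount2558

variable {F : Type u} [Field F] [Fintype F] {G : Type*} [Group G]

lemma exists_elem (h2 : (2 : F) ≠ 0) {n : ℕ} (S : Setup F (2 * n + 1) G) {ε : F} (hε : ε * ε = 1) {h : F[X]}
    (hh : h.Monic) (hn : h.natDegree = n) :
    ∃ y : G, ((S.ρ y : Matrix (Fin (2 * n + 1)) (Fin (2 * n + 1)) F) + ((S.ρ y)⁻¹ : GL (Fin (2 * n + 1)) F)).charpoly =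
      (X - C (2 * ε)) * (h * h) := by
  classical
  obtain ⟨δ', hδ', hfit⟩ : ∃ δ' : ℤ, (δ' = 1 ∨ δ' = -1) ∧ Fits h δ' := by
    by_cases h0 : h.eval 2 * h.eval (-2) = 0
    · exact ⟨1, Or.inl rfl, Or.inl h0⟩
    · exact ⟨_, chi_cases (mul_ne_zero (pow_ne_zero _ (neg_ne_zero.2 one_ne_zero)) h0), Or.inr rfl⟩
  obtain ⟨ι, _, _, Γ, M, M', hcard, hsym, hdet, hchi, hiso, hinv, hchar⟩ := realised h2 n h hh hn δ' hδ' hfit
  obtain ⟨d, hd, hdd⟩ : ∃ d : F, d ≠ 0 ∧ δ' * chi d = chi S.J.det := by
    obtain ⟨z, hz, hz'⟩ := exists_nonsquare h2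
    rcases hδ' with e | e <;> rcases chi_cases S.ndeg with e' | e' <;> rw [e, e']
    · exact ⟨1, one_ne_zero, by rw [chi_one, mul_one]⟩
    · exact ⟨z, hz, by rw [hz', one_mul]⟩
    · exact ⟨z, hz, by rw [hz', neg_one_mul, neg_neg]⟩
    · exact ⟨1, one_ne_zero, by rw [chi_one, mul_one]⟩
  obtain ⟨y, hy⟩ := exists_element' h2 S (Matrix.fromBlocks Γ 0 0 (Matrix.diagonal fun _ : Fin 1 => d))
    (Matrix.fromBlocks M 0 0 (ε • 1)) (Matrix.fromBlocks M' 0 0 (ε • 1))
    (by rw [Fintype.card_sum, hcard, hn, Fintype.card_fin])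
    (by rw [Matrix.fromBlocks_transpose, hsym, Matrix.diagonal_transpose, Matrix.transpose_zero, Matrix.transpose_zero])
    (by rw [Matrix.det_fromBlocks_zero₁₂, Matrix.det_diagonal]; simp [hdet, hd])
    (by rw [Matrix.det_fromBlocks_zero₁₂, Matrix.det_diagonal, chi_mul, hchi, ← hdd]; simp)
    (by rw [Matrix.fromBlocks_transpose, Matrix.fromBlocks_multiply, Matrix.fromBlocks_multiply]
        simp [hiso, smul_smul, hε])
    (by rw [Matrix.fromBlocks_multiply, ← Matrix.fromBlocks_one]; simp [hinv, smul_smul, hε])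
  refine ⟨y, hy.trans ?_⟩
  rw [Matrix.fromBlocks_add, add_zero, add_zero, Matrix.charpoly_fromBlocks_zero₁₂, hchar, ← add_smul,
    Matrix.smul_one_eq_diagonal, Matrix.charpoly_diagonal, Fin.prod_univ_one, two_mul]
  ring

lemma eq_of_lin_mul_sq {ε ε' : F} {h h' : F[X]} (hh : h.Monic) (hh' : h'.Monic)
    (e : (X - C ε) * (h * h) = (X - C ε') * (h' * h')) : ε = ε' ∧ h = h' := by
  classical
  have hεε : ε = ε' := by
    by_contra hne
    have h1 := congrArg (fun p : F[X] => rootMultiplicity ε p) e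
    rw [rootMultiplicity_mul (mul_ne_zero (X_sub_C_ne_zero _) (mul_ne_zero hh.ne_zero hh.ne_zero)),
      rootMultiplicity_mul (mul_ne_zero hh.ne_zero hh.ne_zero),
      rootMultiplicity_mul (mul_ne_zero (X_sub_C_ne_zero _) (mul_ne_zero hh'.ne_zero hh'.ne_zero)),
      rootMultiplicity_mul (mul_ne_zero hh'.ne_zero hh'.ne_zero), rootMultiplicity_X_sub_C, rootMultiplicity_X_sub_C,
      if_pos rfl, if_neg hne] at h1
    omega
  subst hεε
  refine ⟨rfl, ?_⟩
  rcases mul_self_eq_mul_self_iff.1 (mul_left_cancel₀ (X_sub_C_ne_zero ε) e) with e' | e'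
  · exact e'
  · have h1 := congrArg leadingCoeff e'
    rw [leadingCoeff_neg, hh.leadingCoeff, hh'.leadingCoeff] at h1
    have h20 : (2 : F[X]) = 0 := by
      have : (2 : F) = 0 := by linear_combination h1
      rw [← map_ofNat C 2, this, C_0]
    linear_combination e' - h' * h20

theorem le_card_classes (h2 : (2 : F) ≠ 0) (n : ℕ) [Finite G] (S : Setup F (2 * n + 1) G) :
    2 * Fintype.card F ^ n ≤ Nat.card (ConjClasses G) := by
  classical
  let ε : Bool → F := fun b => if b then 1 else -1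
  have hε : ∀ b, ε b * ε b = 1 := fun b => by cases b <;> simp [ε]
  let A := Bool × (Fin n → F)
  let P : (Fin n → F) → F[X] := fun p => X ^ n + ∑ i : Fin n, C (p i) * X ^ (i : ℕ)
  have hPm : ∀ p, (P p).Monic := fun p => monic_X_pow_add (degree_sum_fin_lt _)
  have hPd : ∀ p, (P p).natDegree = n := fun p => by
    refine natDegree_eq_of_degree_eq_some ?_
    rw [degree_add_eq_left_of_degree_lt] <;> rw [degree_X_pow]
    exact degree_sum_fin_lt _
  choose y hy using fun x : A => exists_elem h2 S (hε x.1) (hPm x.2) (hPd x.2)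
  have hinj : Function.Injective fun x : A => ConjClasses.mk (y x) := by
    intro x x' e
    obtain ⟨w, hw⟩ := isConj_iff.1 (ConjClasses.mk_eq_mk_iff_isConj.1 e)
    have key : ((S.ρ (y x) : Matrix (Fin (2 * n + 1)) (Fin (2 * n + 1)) F) +
        ((S.ρ (y x))⁻¹ : GL (Fin (2 * n + 1)) F)).charpoly =
        ((S.ρ (y x') : Matrix (Fin (2 * n + 1)) (Fin (2 * n + 1)) F) +
        ((S.ρ (y x'))⁻¹ : GL (Fin (2 * n + 1)) F)).charpoly := by
      rw [← hw, map_mul, map_mul, map_inv, _root_.mul_inv_rev, _root_.mul_inv_rev, inv_inv, ← mul_assoc (S.ρ w)]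
      simp only [Units.val_mul]
      rw [← add_mul, ← mul_add]
      simp only [Matrix.coe_units_inv]
      rw [Matrix.charpoly_units_conj]
    rw [hy, hy] at key
    obtain ⟨h1, h3⟩ := eq_of_lin_mul_sq (hPm _) (hPm _) key
    have hb : x.1 = x'.1 := by
      rcases hb1 : x.1 <;> rcases hb2 : x'.1 <;> rw [hb1, hb2] at h1 <;> simp only [ε] at h1
      all_goals first | rfl | (exfalso; refine h2 ?_; have h4 := mul_left_cancel₀ h2 h1; simp at h4; first | linear_combination h4 | linear_combination -h4)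
    refine Prod.ext hb (funext fun i => ?_)
    have := congrArg (coeff · (i : ℕ)) (add_left_cancel h3)
    simp only [finsetSum_coeff, coeff_C_mul, coeff_X_pow, mul_ite, mul_one, mul_zero] at this
    rw [Finset.sum_eq_single i (fun j _ hj => if_neg fun h => hj (Fin.ext h.symm)) (by simp),
      Finset.sum_eq_single i (fun j _ hj => if_neg fun h => hj (Fin.ext h.symm)) (by simp), if_pos rfl, if_pos rfl] at this
    exact this
  have hA : Nat.card A ≤ Nat.card (ConjClasses G) := Nat.card_le_card_of_injective _ hinj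
  rwa [Nat.card_prod, Nat.card_fun, Nat.card_fin, Nat.card_eq_fintype_card (α := F), Nat.card_eq_fintype_card,
    Fintype.card_bool] at hA

end OddClassCount2560
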