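import Mathlib

/-!
Commuting pairs and the kernel of a map onto a four group.
-/

set_option autoImplicit false

namespace OddClassCount2560

open Finset

variable {G : Type*} [Group G] [Fintype G]

open scoped Classical in
/-- commuting pairs in two sets -/
noncomputable def cnt (A B : Finset G) : ℕ := ((A ×ˢ B).filter fun p => Commute p.1 p.2).card

lemma cnt_sum (A B : Finset G) : cnt A B = ∑ a ∈ A, cnt {a} B := by
  classical
  simp only [cnt, Finset.card_filter, Finset.sum_product, Finset.sum_singleton]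

lemma cnt_mono {A B A' B' : Finset G} (hA : A ⊆ A') (hB : B ⊆ B') : cnt A B ≤ cnt A' B' := by
  classical
  exact Finset.card_le_card (Finset.filter_subset_filter _ (Finset.product_subset_product hA hB))

lemma cnt_comm (A B : Finset G) : cnt A B = cnt B A := by
  classical
  refine Finset.card_nbij' (fun p => (p.2, p.1)) (fun p => (p.2, p.1)) ?_ ?_ (fun p _ => rfl) (fun p _ => rfl) <;>
  · intro p hp
    simp only [Finset.mem_coe, Finset.mem_filter, Finset.mem_product] at hp ⊢
    exact ⟨⟨hp.1.2, hp.1.1⟩, hp.2.symm⟩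

lemma cnt_union [DecidableEq G] {A A' : Finset G} (h : Disjoint A A') (B : Finset G) :
    cnt (A ∪ A') B = cnt A B + cnt A' B := by
  rw [cnt_sum, cnt_sum A, cnt_sum A', Finset.sum_union h]

lemma cnt_translate [DecidableEq G] {e : G} (he : ∀ g, Commute e g) (A B : Finset G) :
    cnt (A.image (e * ·)) B = cnt A B := by
  classical
  rw [cnt_sum, cnt_sum A, Finset.sum_image (g := fun a => e * a) fun a _ b _ h => mul_left_cancel h]
  refine Finset.sum_congr rfl fun a _ => ?_
  refine Finset.card_nbij' (fun p => (a, p.2)) (fun p => (e * a, p.2)) ?_ ?_ ?_ ?_ <;>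
    intro p hp <;> simp only [Finset.mem_coe, Finset.mem_filter, Finset.mem_product, Finset.mem_singleton] at hp ⊢
  · obtain ⟨⟨h1, h2⟩, h3⟩ := hp
    rw [h1] at h3
    refine ⟨⟨trivial, h2⟩, ?_⟩
    have := (he p.2).inv_left.mul_left h3
    rwa [inv_mul_cancel_left] at this
  · obtain ⟨⟨h1, h2⟩, h3⟩ := hp
    rw [h1] at h3
    exact ⟨⟨trivial, h2⟩, (he p.2).mul_left h3⟩
  · exact Prod.ext hp.1.1.symm rfl
  · exact Prod.ext hp.1.1.symm rfl

lemma cnt_univ : cnt (univ : Finset G) univ = Nat.card (ConjClasses G) * Nat.card G := by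
  classical
  rw [← card_comm_eq_card_conjClasses_mul_card, Nat.card_eq_fintype_card, Fintype.card_subtype, cnt,
    Finset.univ_product_univ]

lemma cnt_subgroup (H : Subgroup G) [DecidablePred (· ∈ H)] :
    cnt (univ.filter (· ∈ H)) (univ.filter (· ∈ H)) = Nat.card (ConjClasses H) * Nat.card H := by
  classical
  rw [← card_comm_eq_card_conjClasses_mul_card, Nat.card_eq_fintype_card, ← Finset.card_univ, cnt]
  refine (Finset.card_bij (fun p _ => ((p.1.1 : G), (p.1.2 : G))) ?_ ?_ ?_).symm
  · intro p _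
    simp only [Finset.mem_filter, Finset.mem_product, Finset.mem_univ, true_and]
    exact ⟨⟨p.1.1.2, p.1.2.2⟩, p.2.map H.subtype⟩
  · intro p _ p' _ h
    simp only [Prod.mk.injEq] at h
    exact Subtype.ext (Prod.ext (Subtype.ext h.1) (Subtype.ext h.2))
  · intro b hb
    simp only [Finset.mem_filter, Finset.mem_product, Finset.mem_univ, true_and] at hb
    exact ⟨⟨(⟨b.1, hb.1.1⟩, ⟨b.2, hb.1.2⟩), Subtype.ext hb.2⟩, Finset.mem_univ _, rfl⟩

/-- pairs starting in a union of classes -/
lemma cnt_classes (p : ConjClasses G → Prop) [DecidablePred p] :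
    cnt (univ.filter fun a => p (ConjClasses.mk a)) univ = Nat.card {c // p c} * Nat.card G := by
  classical
  rw [cnt_sum, ← Finset.sum_fiberwise_of_maps_to (g := ConjClasses.mk) (t := univ.filter p)
    (fun a ha => Finset.mem_filter.2 ⟨Finset.mem_univ _, (Finset.mem_filter.1 ha).2⟩)]
  rw [Nat.card_eq_fintype_card (α := {c // p c}), Fintype.card_subtype, ← smul_eq_mul, ← Finset.sum_const]
  refine Finset.sum_congr rfl fun c hc => ?_
  obtain ⟨a₀, rfl⟩ := ConjClasses.mk_surjective c
  have hcard : ∀ a, cnt ({a} : Finset G) univ = Nat.card (Subgroup.centralizer ({a} : Set G)) := fun a => by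
    rw [Nat.card_eq_fintype_card, ← Finset.card_univ, cnt]
    refine (Finset.card_bij (fun (b : Subgroup.centralizer ({a} : Set G)) _ => (a, (b : G))) ?_ ?_ ?_).symm
    · intro b _
      simp only [Finset.mem_filter, Finset.mem_product, Finset.mem_singleton, Finset.mem_univ, and_self, true_and]
      exact (Subgroup.mem_centralizer_singleton_iff.1 b.2).symm
    · intro b _ b' _ h
      exact Subtype.ext (Prod.mk.inj h).2
    · intro b hb
      simp only [Finset.mem_filter, Finset.mem_product, Finset.mem_singleton, Finset.mem_univ, and_true] at hb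
      obtain ⟨h1, h2⟩ := hb
      rw [h1] at h2
      exact ⟨⟨b.2, Subgroup.mem_centralizer_singleton_iff.2 h2.eq.symm⟩, Finset.mem_univ _, Prod.ext h1.symm rfl⟩
  have hset : (univ.filter fun a => p (ConjClasses.mk a)).filter (fun a => ConjClasses.mk a = ConjClasses.mk a₀) =
      (ConjClasses.mk a₀).carrier.toFinset := by
    ext a
    simp only [Finset.mem_filter, Finset.mem_univ, true_and, Set.mem_toFinset, ConjClasses.mem_carrier_iff_mk_eq]
    exact ⟨fun h => h.2, fun h => ⟨by rw [h]; exact (Finset.mem_filter.1 hc).2, h⟩⟩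
  have hconst : ∀ a ∈ (ConjClasses.mk a₀).carrier.toFinset,
      cnt ({a} : Finset G) univ = Nat.card (Subgroup.centralizer ({a₀} : Set G)) := by
    intro a ha
    rw [Set.mem_toFinset, ConjClasses.mem_carrier_iff_mk_eq, ConjClasses.mk_eq_mk_iff_isConj] at ha
    obtain ⟨g, hg⟩ := isConj_iff.1 ha.symm
    rw [hcard]
    refine (Nat.card_congr ((MulAut.conj g).toEquiv.subtypeEquiv fun x => ?_)).symm
    rw [Subgroup.mem_centralizer_singleton_iff, Subgroup.mem_centralizer_singleton_iff, ← hg]
    show x * a₀ = a₀ * x ↔ g * x * g⁻¹ * (g * a₀ * g⁻¹) = g * a₀ * g⁻¹ * (g * x * g⁻¹)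
    constructor
    · intro h
      calc g * x * g⁻¹ * (g * a₀ * g⁻¹) = g * (x * a₀) * g⁻¹ := by group
        _ = g * (a₀ * x) * g⁻¹ := by rw [h]
        _ = _ := by group
    · intro h
      calc x * a₀ = g⁻¹ * (g * x * g⁻¹ * (g * a₀ * g⁻¹)) * g := by group
        _ = g⁻¹ * (g * a₀ * g⁻¹ * (g * x * g⁻¹)) * g := by rw [h]
        _ = _ := by group
  rw [hset, Finset.sum_congr rfl hconst, Finset.sum_const, smul_eq_mul, Set.toFinset_card,
    Nat.card_eq_fintype_card, Nat.card_eq_fintype_card]
  have h1 := MulAction.card_orbit_mul_card_stabilizer_eq_card_group (ConjAct G) a₀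
  rw [ConjAct.card] at h1
  refine Eq.trans ?_ h1
  congr 1
  · exact Fintype.card_congr (Equiv.setCongr ((ConjAct.orbit_eq_carrier_conjClasses a₀).symm))
  · refine Fintype.card_congr (ConjAct.toConjAct.toEquiv.subtypeEquiv fun x => ?_)
    rw [Subgroup.mem_centralizer_singleton_iff, MulAction.mem_stabilizer_iff, ConjAct.smul_def]
    show x * a₀ = a₀ * x ↔ x * a₀ * x⁻¹ = a₀
    exact mul_inv_eq_iff_eq_mul.symm

variable (θ : G →* ℤˣ × ℤˣ) (e k₀ : G) (he : ∀ g, Commute e g) (he1 : (θ e).1 = -1) (hk : θ k₀ = (1, -1))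

include he he1 hk

omit he in
lemma card_four : Nat.card G = 4 * Nat.card θ.ker := by
  have hsurj : Function.Surjective θ := by
    rintro ⟨x, y⟩
    have h2 : (θ e) = (-1, (θ e).2) := Prod.ext he1 rfl
    rcases Int.units_eq_one_or x with rfl | rfl <;> rcases Int.units_eq_one_or y with rfl | rfl
    · exact ⟨1, map_one _⟩
    · exact ⟨k₀, hk⟩
    · rcases Int.units_eq_one_or (θ e).2 with h | h <;> rw [h] at h2
      · exact ⟨e, h2⟩
      · exact ⟨e * k₀, by rw [map_mul, h2, hk]; rfl⟩
    · rcases Int.units_eq_one_or (θ e).2 with h | h <;> rw [h] at h2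
      · exact ⟨e * k₀, by rw [map_mul, h2, hk]; rfl⟩
      · exact ⟨e, h2⟩
  rw [← Subgroup.index_mul_card θ.ker, Subgroup.index_ker, MonoidHom.range_eq_top.2 hsurj, Subgroup.card_top,
    Nat.card_prod, Nat.card_eq_fintype_card (α := ℤˣ), Fintype.card_units_int]

open scoped Classical in
lemma cnt_split :
    Nat.card (ConjClasses G) * Nat.card G =
      4 * (cnt (univ.filter fun a => θ a = 1) (univ.filter fun a => θ a = 1) +
        3 * cnt (univ.filter fun a => θ a = 1) (univ.filter fun a => θ a = (1, -1))) := by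
  set H := univ.filter fun a => θ a = 1 with hH
  set K := univ.filter fun a => θ a = (1, -1) with hK
  set S := univ.filter fun a => (θ a).1 = 1 with hS
  have hSHK : S = H ∪ K := by
    ext a
    simp only [hS, hH, hK, Finset.mem_union, Finset.mem_filter, Finset.mem_univ, true_and, Prod.ext_iff, Prod.fst_one,
      Prod.snd_one]
    rcases Int.units_eq_one_or (θ a).2 with h | h <;> simp [h]
  have hd : Disjoint H K := Finset.disjoint_left.2 fun a ha hb => by
    have h := (Finset.mem_filter.1 ha).2.symm.trans (Finset.mem_filter.1 hb).2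
    simp [Prod.ext_iff] at h
  have hG : (univ : Finset G) = S ∪ S.image (e * ·) := by
    ext a
    simp only [hS, Finset.mem_univ, true_iff, Finset.mem_union, Finset.mem_image, Finset.mem_filter, true_and]
    rcases Int.units_eq_one_or (θ a).1 with h | h
    · exact Or.inl h
    · refine Or.inr ⟨e⁻¹ * a, ?_, mul_inv_cancel_left e a⟩
      rw [map_mul, map_inv, Prod.fst_mul, Prod.fst_inv, he1, h]
      rfl
  have hdG : Disjoint S (S.image (e * ·)) := Finset.disjoint_left.2 fun a ha hb => by
    obtain ⟨b, hb', rfl⟩ := Finset.mem_image.1 hb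
    simp only [hS, Finset.mem_filter, map_mul, Prod.fst_mul, he1] at ha hb'
    rw [hb'.2] at ha
    simp at ha
  have hKK : cnt K K = cnt H K := by
    refine Finset.card_nbij' (fun p => (p.1 * p.2, p.2)) (fun p => (p.1 * p.2⁻¹, p.2)) ?_ ?_ ?_ ?_ <;> intro p hp
    · simp only [hH, hK, Finset.mem_coe, Finset.mem_filter, Finset.mem_product, Finset.mem_univ, true_and, map_mul] at hp ⊢
      exact ⟨⟨by rw [hp.1.1, hp.1.2]; rfl, hp.1.2⟩, hp.2.mul_left (Commute.refl _)⟩
    · simp only [hH, hK, Finset.mem_coe, Finset.mem_filter, Finset.mem_product, Finset.mem_univ, true_and, map_mul,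
        map_inv] at hp ⊢
      exact ⟨⟨by rw [hp.1.1, hp.1.2]; rfl, hp.1.2⟩, hp.2.mul_left (Commute.refl _).inv_left⟩
    · exact Prod.ext (mul_inv_cancel_right p.1 p.2) rfl
    · exact Prod.ext (inv_mul_cancel_right p.1 p.2) rfl
  rw [← cnt_univ, hG, cnt_union hdG, cnt_translate he, cnt_comm S, cnt_union hdG, cnt_translate he, hSHK,
    cnt_union hd, cnt_comm H (H ∪ K), cnt_comm K (H ∪ K), cnt_union hd, cnt_union hd, cnt_comm K H, hKK]
  ring

open scoped Classical in
/-- class numbers of the kernel -/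
theorem four_mul_le (surv : ConjClasses G → Prop)
    (hsurv : ∀ a, θ a = 1 → surv (ConjClasses.mk a) → surv (ConjClasses.mk (e * a)))
    (hwit : ∀ a, θ a = 1 → ¬ surv (ConjClasses.mk a) → ∃ z, Commute a z ∧ θ z = (1, -1)) :
    4 * Nat.card (ConjClasses θ.ker) ≤ Nat.card (ConjClasses G) + 3 * Nat.card {c // surv c} := by
  set H := univ.filter fun a => θ a = 1 with hH
  set K := univ.filter fun a => θ a = (1, -1) with hK
  set A := H.filter fun a => surv (ConjClasses.mk a) with hA
  have h1 := cnt_split θ e k₀ he he1 hk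
  rw [← hH, ← hK] at h1
  have hHH : cnt H H = Nat.card (ConjClasses θ.ker) * Nat.card θ.ker := by
    rw [← cnt_subgroup]
    congr 1 <;> (ext a; simp [hH, MonoidHom.mem_ker])
  have hcard := card_four θ e k₀ he1 hk
  have h2 : cnt H H ≤ cnt H K + cnt A H := by
    rw [cnt_sum H H, cnt_sum H K, cnt_sum A H, hA, Finset.sum_filter (s := H), ← Finset.sum_add_distrib]
    refine Finset.sum_le_sum fun a ha => ?_
    by_cases hs : surv (ConjClasses.mk a)
    · rw [if_pos hs]; exact Nat.le_add_left _ _
    · refine le_trans ?_ (Nat.le_add_right _ _)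
      obtain ⟨z, hz, hzθ⟩ := hwit a (Finset.mem_filter.1 ha).2 hs
      refine Finset.card_le_card_of_injOn (fun p => (p.1, p.2 * z)) (fun p hp => ?_) fun p _ p' _ h => ?_
      · simp only [hH, hK, Finset.mem_coe, Finset.mem_filter, Finset.mem_product, Finset.mem_singleton, Finset.mem_univ,
          true_and, map_mul] at hp ⊢
        exact ⟨⟨hp.1.1, by rw [hp.1.2, hzθ, one_mul]⟩, hp.2.mul_right (hp.1.1 ▸ hz)⟩
      · simp only [Prod.mk.injEq, mul_left_inj] at h
        exact Prod.ext h.1 h.2
  have h3 : 4 * cnt A H ≤ Nat.card {c // surv c} * Nat.card G := by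
    rw [← cnt_classes]
    have hdH : Disjoint H (H.image (e * ·)) := Finset.disjoint_left.2 fun a ha hb => by
      obtain ⟨b, hb', rfl⟩ := Finset.mem_image.1 hb
      simp only [hH, Finset.mem_filter, Finset.mem_univ, true_and, map_mul] at ha hb'
      rw [hb', mul_one] at ha
      rw [ha, Prod.fst_one] at he1
      exact absurd he1 (by decide)
    have hdA : Disjoint A (A.image (e * ·)) :=
      hdH.mono (Finset.filter_subset _ _) (Finset.image_subset_image (Finset.filter_subset _ _))
    have e1 : cnt A (H ∪ H.image (e * ·)) = 2 * cnt A H := by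
      rw [cnt_comm, cnt_union hdH, cnt_translate he, cnt_comm H A]; ring
    have e2 : cnt (A ∪ A.image (e * ·)) univ = 2 * cnt A univ := by
      rw [cnt_union hdA, cnt_translate he]; ring
    have e3 : A ∪ A.image (e * ·) ⊆ univ.filter fun a => surv (ConjClasses.mk a) := by
      intro a ha
      rw [Finset.mem_filter]
      refine ⟨Finset.mem_univ _, ?_⟩
      rcases Finset.mem_union.1 ha with h | h
      · exact (Finset.mem_filter.1 h).2
      · obtain ⟨b, hb, rfl⟩ := Finset.mem_image.1 h
        exact hsurv b (Finset.mem_filter.1 (Finset.mem_filter.1 hb).1).2 (Finset.mem_filter.1 hb).2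
    have := cnt_mono e3 (subset_refl univ)
    have := cnt_mono (subset_refl A) (Finset.subset_univ (H ∪ H.image (e * ·)))
    omega
  have hpos : 0 < Nat.card G := Nat.card_pos
  refine Nat.le_of_mul_le_mul_right ?_ hpos
  rw [add_mul, h1]
  calc 4 * Nat.card (ConjClasses θ.ker) * Nat.card G = 16 * cnt H H := by rw [hHH, hcard]; ring
    _ ≤ 4 * (cnt H H + 3 * cnt H K) + 12 * cnt A H := by omega
    _ ≤ _ := by rw [mul_assoc 3]; omega

open scoped Classical in
/-- the kernel has at least a quarter as many classes -/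
theorem le_four_mul : Nat.card (ConjClasses G) ≤ 4 * Nat.card (ConjClasses θ.ker) := by
  set H := univ.filter fun a => θ a = 1 with hH
  set K := univ.filter fun a => θ a = (1, -1) with hK
  have h1 := cnt_split θ e k₀ he he1 hk
  rw [← hH, ← hK] at h1
  have hHH : cnt H H = Nat.card (ConjClasses θ.ker) * Nat.card θ.ker := by
    rw [← cnt_subgroup]
    congr 1 <;> (ext a; simp [hH, MonoidHom.mem_ker])
  have hcard := card_four θ e k₀ he1 hk
  have h2 : cnt H K ≤ cnt H H := by
    rw [cnt_sum H K, cnt_sum H H]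
    refine Finset.sum_le_sum fun a _ => ?_
    by_cases hz : ∃ z, Commute a z ∧ θ z = (1, -1)
    · obtain ⟨z, hz, hzθ⟩ := hz
      refine Finset.card_le_card_of_injOn (fun p => (p.1, p.2 * z)) (fun p hp => ?_) fun p _ p' _ h => ?_
      · simp only [hH, hK, Finset.mem_coe, Finset.mem_filter, Finset.mem_product, Finset.mem_singleton, Finset.mem_univ,
          true_and, map_mul] at hp ⊢
        exact ⟨⟨hp.1.1, by rw [hp.1.2, hzθ]; rfl⟩, hp.2.mul_right (hp.1.1 ▸ hz)⟩
      · simp only [Prod.mk.injEq, mul_left_inj] at h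
        exact Prod.ext h.1 h.2
    · refine le_trans (le_of_eq ?_) (Nat.zero_le _)
      refine Finset.card_eq_zero.2 (Finset.filter_eq_empty_iff.2 fun p hp hc => hz ?_)
      simp only [hK, Finset.mem_product, Finset.mem_singleton, Finset.mem_filter] at hp
      exact ⟨p.2, hp.1 ▸ hc, hp.2.2⟩
  refine Nat.le_of_mul_le_mul_right ?_ (Nat.card_pos (α := G))
  calc Nat.card (ConjClasses G) * Nat.card G ≤ 16 * cnt H H := by omega
    _ = _ := by rw [hHH, hcard]; ring

end OddClassCount2560
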