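import Mathlib
import Cfsg.Agent.Lib.Forms.Spinor
import Cfsg.Agent.OrthClassCount.Quad
import Cfsg.Agent.OddClassCount.Levels
import Cfsg.Agent.OddClassCount.Piece

/-!
A centralising element of non-trivial spinor norm.
-/

set_option autoImplicit false
set_option linter.unusedSectionVars false

universe u

namespace OddClassCount2560

open Matrix Polynomial Module GLClassCount2478 OrthClassCount2558
open Cfsg.Agent.Forms (Spinor.pairHom Spinor.spin Spinor.valPerm Spinor.ValSet Reflections.par Reflections.fixSp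
  Reflections.act Reflections.act_apply Reflections.mem_fixSp)

variable {F : Type u} [Field F] [Fintype F]

/-- an endomorphism preserving the form comes from the centraliser -/
lemma exists_commute {N : ℕ} {G : Type*} [Group G] (S : Setup F N G) (y : G)
    (e : modOf (S.ρ y) →ₗ[F[X]] modOf (S.ρ y)) (he : ∀ a b, formOf S.J (S.ρ y) (e a) (e b) = formOf S.J (S.ρ y) a b) :
    ∃ w : G, Commute y w ∧ ∀ v, Module.AEval'.of (Matrix.toLin' (S.ρ y : Matrix (Fin N) (Fin N) F))
      ((S.ρ w : Matrix (Fin N) (Fin N) F) *ᵥ v) = e (Module.AEval'.of (Matrix.toLin' (S.ρ y : Matrix (Fin N) (Fin N) F)) v) := by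
  let a := Module.AEval'.of (Matrix.toLin' (S.ρ y : Matrix (Fin N) (Fin N) F))
  set c := LinearMap.toMatrix' (a.symm.toLinearMap.comp ((e.restrictScalars F).comp a.toLinearMap)) with hc
  have hcv : ∀ v, a (c *ᵥ v) = e (a v) := fun v => by
    rw [hc, LinearMap.toMatrix'_mulVec]
    exact a.apply_symm_apply _
  have hcomm : (S.ρ y : Matrix (Fin N) (Fin N) F) * c = c * (S.ρ y : Matrix (Fin N) (Fin N) F) := by
    refine Matrix.toLin'.injective (LinearMap.ext fun v => a.injective ?_)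
    rw [Matrix.toLin'_apply, Matrix.toLin'_apply, ← Matrix.mulVec_mulVec, ← Matrix.mulVec_mulVec, hcv,
      ← Matrix.toLin'_apply (S.ρ y : Matrix (Fin N) (Fin N) F), ← Matrix.toLin'_apply (S.ρ y : Matrix (Fin N) (Fin N) F)]
    show a _ = e (a _)
    rw [← Module.AEval'.X_smul_of, ← Module.AEval'.X_smul_of, map_smul]
    show (Polynomial.X : F[X]) • a (c *ᵥ v) = _
    rw [hcv]
  have hform : c.transpose * S.J * c = S.J := by
    refine Matrix.toBilin'.injective (LinearMap.ext fun x => LinearMap.ext fun w => ?_)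
    rw [Matrix.toBilin'_apply', Matrix.toBilin'_apply', ← Matrix.mulVec_mulVec, ← Matrix.mulVec_mulVec,
      Matrix.dotProduct_mulVec x, Matrix.vecMul_transpose]
    have h1 := he (a x) (a w)
    rw [← hcv, ← hcv] at h1
    rw [← formOf_of S.J (S.ρ y), ← formOf_of S.J (S.ρ y)]
    exact h1
  have hdet : c.det ≠ 0 := fun h0 => S.ndeg (by
    have h2 := congrArg Matrix.det hform
    rw [Matrix.det_mul, Matrix.det_mul, h0, mul_zero] at h2
    exact h2.symm)
  obtain ⟨w, hw⟩ := S.surj (Matrix.GeneralLinearGroup.mkOfDetNeZero c hdet) hform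
  refine ⟨w, S.inj (Units.ext ?_), fun v => ?_⟩
  · rw [map_mul, map_mul, hw, Units.val_mul, Units.val_mul]
    exact hcomm
  · rw [hw]
    exact hcv v

variable {ι : Type} [Fintype ι] [DecidableEq ι] {Q : QuadraticForm F (ι → F)}

theorem exists_witness (hodd : Odd (Fintype.card F)) (h2 : (2 : F) ≠ 0) (hQ : (QuadraticMap.polarBilin Q).Nondegenerate)
    {n : ℕ} (hcard : Fintype.card ι = 2 * n + 1) {N : ℕ} (ε : ι ≃ Fin N) (S : Setup F N ↥(Cfsg.isometryGroup F ⇑Q))
    (hact : ∀ y v, ((S.ρ y : Matrix (Fin N) (Fin N) F) *ᵥ v) ∘ ε = ((y.1 : GL ι F) : Matrix ι ι F) *ᵥ (v ∘ ε))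
    (hJ : ∀ v w, v ⬝ᵥ S.J *ᵥ w = QuadraticMap.polar Q (v ∘ ε) (w ∘ ε))
    (y : ↥(Cfsg.isometryGroup F ⇑Q)) (h : HasTorus (objOf S y)) :
    ∃ z, Commute y z ∧ Spinor.pairHom hQ h2 z = (1, -1) := by
  classical
  set X := objOf S y with hX
  obtain ⟨P, φ₀, hφ₀, r, M, t, j, σ, hMe, hM, hco, hto, hσ, ht, hrank, hiso, hpow, hfree⟩ := h
  have hpull : pull X.B φ₀ = P.B := LinearMap.ext fun a => LinearMap.ext fun b => hφ₀ a b
  obtain ⟨Y, Φ, -, hΦ⟩ := exists_split X φ₀ (hpull.symm ▸ P.nd)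
  rw [hpull] at hΦ
  let R : (P.M × Y.M) →ₗ[F[X]] (P.M × Y.M) := (LinearMap.lsmul F[X] P.M r).prodMap LinearMap.id
  let e : X.M →ₗ[F[X]] X.M := Φ.toLinearMap.comp (R.comp Φ.symm.toLinearMap)
  have heΦ : ∀ p : P.M × Y.M, e (Φ p) = Φ (r • p.1, p.2) := fun p => by
    show Φ (R (Φ.symm (Φ p))) = _
    rw [LinearEquiv.symm_apply_apply]
    rfl
  have he : ∀ a b, X.B (e a) (e b) = X.B a b := fun a b => by
    obtain ⟨p, rfl⟩ := Φ.surjective a
    obtain ⟨p', rfl⟩ := Φ.surjective b
    rw [heΦ, heΦ, hΦ, hΦ, hiso]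
  obtain ⟨z, hz, hzv⟩ := exists_commute S y e he
  refine ⟨z, hz, ?_⟩
  let ξ : (ι → F) ≃ₗ[F] X.M :=
    (LinearEquiv.funCongrLeft F F ε.symm).trans (Module.AEval'.of (Matrix.toLin' (S.ρ y : Matrix (Fin N) (Fin N) F)))
  have hξB : ∀ x, X.B (ξ x) (ξ x) = 2 * Q x := fun x => by
    have e1 : ∀ x : ι → F, ((LinearEquiv.funCongrLeft F F ε.symm) x) ∘ ε = x := fun x => by
      funext i
      simp [LinearEquiv.funCongrLeft, LinearMap.funLeft]
    refine (formOf_of S.J (S.ρ y) ((LinearEquiv.funCongrLeft F F ε.symm) x) ((LinearEquiv.funCongrLeft F F ε.symm) x)).trans ?_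
    rw [hJ, e1, QuadraticMap.polar_self, nsmul_eq_mul, Nat.cast_ofNat]
  have hξz : ∀ x, ξ (Reflections.act z x) = e (ξ x) := fun x => by
    show Module.AEval'.of (Matrix.toLin' (S.ρ y : Matrix (Fin N) (Fin N) F))
        ((LinearEquiv.funCongrLeft F F ε.symm) (Reflections.act z x)) =
      e (Module.AEval'.of (Matrix.toLin' (S.ρ y : Matrix (Fin N) (Fin N) F)) ((LinearEquiv.funCongrLeft F F ε.symm) x))
    refine Eq.trans (congrArg _ ?_) (hzv _)
    have e1 : ∀ v : Fin N → F, (LinearEquiv.funCongrLeft F F ε.symm) (v ∘ ε) = v := fun v => by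
      funext i
      simp [LinearEquiv.funCongrLeft, LinearMap.funLeft]
    rw [← e1 ((S.ρ z : Matrix (Fin N) (Fin N) F) *ᵥ _), hact, Reflections.act_apply]
    congr 2
    funext i
    simp [LinearEquiv.funCongrLeft, LinearMap.funLeft]
  have hzp : ∀ (i : ℕ) (x : ι → F), Φ.symm (ξ (Reflections.act (z ^ i) x)) = (r ^ i • (Φ.symm (ξ x)).1, (Φ.symm (ξ x)).2) := by
    intro i
    induction i with
    | zero => intro x; rw [pow_zero, Cfsg.Agent.Forms.Reflections.act_one, pow_zero, one_smul]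
    | succ i ih =>
      intro x
      rw [pow_succ', Cfsg.Agent.Forms.Reflections.act_mul, hξz]
      obtain ⟨p, hp⟩ := Φ.surjective (ξ (Reflections.act (z ^ i) x))
      rw [← hp, heΦ, LinearEquiv.symm_apply_apply]
      have := ih x
      rw [← hp, LinearEquiv.symm_apply_apply] at this
      rw [this, pow_succ', smul_smul]
  have hfix : ∀ x, Reflections.act z x = x ↔ (Φ.symm (ξ x)).1 = 0 := by
    intro x
    have h1 := hzp 1 x
    rw [pow_one, pow_one] at h1
    constructor
    · intro hx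
      rw [hx] at h1
      exact hfree 1 one_pos (by omega) _ (by rw [pow_one]; exact (congrArg Prod.fst h1).symm)
    · intro h0
      refine ξ.injective (Φ.symm.injective ?_)
      rw [h1, h0, smul_zero, ← h0]
  -- dimensions
  haveI : Module.Finite F P.M := Module.Finite.of_finite
  haveI : Module.Finite F Y.M := Module.Finite.of_finite
  have hdim : 2 * n + 1 = 2 * j + Module.finrank F Y.M := by
    rw [← hrank, ← Module.finrank_prod, (Φ.restrictScalars F).finrank_eq, ← ξ.finrank_eq, Module.finrank_pi, hcard]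
  obtain ⟨a, ha⟩ : ∃ a, Module.finrank F Y.M = 2 * a + 1 := ⟨n - j, by omega⟩
  have hn : n = a + j := by omega
  have hX' : Module.finrank F X.M = 2 * n + 1 := by rw [← ξ.finrank_eq, Module.finrank_pi, hcard]
  -- parity
  have hpar : Reflections.par z = 1 := by
    have hfs : Reflections.fixSp z =
        LinearMap.range (ξ.symm.toLinearMap.comp (((Φ.restrictScalars F).toLinearMap).comp (LinearMap.inr F P.M Y.M))) := by
      ext x
      rw [Reflections.mem_fixSp, hfix, LinearMap.mem_range]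
      constructor
      · intro h0
        refine ⟨(Φ.symm (ξ x)).2, ?_⟩
        show ξ.symm (Φ (0, (Φ.symm (ξ x)).2)) = x
        rw [← h0, LinearEquiv.apply_symm_apply, LinearEquiv.symm_apply_apply]
      · rintro ⟨p, rfl⟩
        show (Φ.symm (ξ (ξ.symm (Φ (0, p))))).1 = 0
        rw [LinearEquiv.apply_symm_apply, LinearEquiv.symm_apply_apply]
    unfold Reflections.par
    rw [hfs, LinearMap.finrank_range_of_inj, ha, hcard]
    · exact Even.neg_one_pow ⟨a + n + 1, by ring⟩
    · exact ξ.symm.injective.comp (Φ.injective.comp LinearMap.inr_injective)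
  -- spinor norm
  set ν := Spinor.valPerm Q 1 z with hν
  have hνp : ∀ (i : ℕ) (x : Spinor.ValSet Q 1), ((ν ^ i) x).1 = Reflections.act (z ^ i) x.1 := fun i x => by
    rw [hν, ← map_pow]
    rfl
  have hνfix : ∀ x : Spinor.ValSet Q 1, ν x = x ↔ (Φ.symm (ξ x.1)).1 = 0 := fun x => by
    rw [← hfix, Subtype.ext_iff]
    rfl
  have hpw : ν ^ M = 1 := by
    refine Equiv.ext fun x => Subtype.ext ?_
    rw [hνp]
    refine ξ.injective (Φ.symm.injective ?_)
    rw [hzp, hpow]
    rfl
  have hfr : ∀ x, ν x ≠ x → ∀ i, 0 < i → i < M → (ν ^ i) x ≠ x := by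
    intro x hx i hi hiM hc
    refine hx ((hνfix x).2 ?_)
    have h1 := congrArg Subtype.val hc
    rw [hνp] at h1
    have h2 := hzp i x.1
    rw [h1] at h2
    exact hfree i hi hiM _ (congrArg Prod.fst h2).symm
  obtain ⟨hdvd, hsign⟩ := sign_free ν hMe (by omega) hpw hfr
  obtain ⟨η, hη, hL⟩ := levels h2 X.inv.symm X.nd hX' h2
  obtain ⟨η', hη', hL0⟩ := levels h2 Y.inv.symm Y.nd ha h2
  let ξL : Spinor.ValSet Q 1 ≃ {p : X.M // X.B p p = 2} :=
    ξ.toEquiv.subtypeEquiv fun x => by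
      show Q x = 1 ↔ X.B (ξ x) (ξ x) = 2
      rw [hξB]
      constructor
      · intro h; rw [h, mul_one]
      · intro h; exact mul_left_cancel₀ h2 (h.trans (mul_one 2).symm)
  have hfixcard : Fintype.card {x : Spinor.ValSet Q 1 // ν x = x} = Nat.card {p : Y.M // Y.B p p = 2} := by
    rw [← Nat.card_eq_fintype_card]
    refine Nat.card_congr
      { toFun := fun x => ⟨(Φ.symm (ξ x.1.1)).2, ?_⟩
        invFun := fun p => ⟨⟨ξ.symm (Φ (0, p.1)), ?_⟩, ?_⟩
        left_inv := fun x => ?_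
        right_inv := fun p => ?_ }
    · have h1 := (ξL x.1).2
      have h0 := (hνfix x.1).1 x.2
      have h3 : X.B (ξ x.1.1) (ξ x.1.1) = 2 := h1
      rw [← Φ.apply_symm_apply (ξ x.1.1), hΦ, h0, map_zero, zero_add] at h3
      exact h3
    · have h1 := hξB (ξ.symm (Φ (0, p.1)))
      rw [LinearEquiv.apply_symm_apply, hΦ, map_zero, zero_add, p.2] at h1
      exact (mul_left_cancel₀ h2 ((mul_one 2).trans h1)).symm
    · rw [hνfix]
      show (Φ.symm (ξ (ξ.symm (Φ (0, p.1))))).1 = 0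
      rw [LinearEquiv.apply_symm_apply, LinearEquiv.symm_apply_apply]
    · refine Subtype.ext (Subtype.ext ?_)
      show ξ.symm (Φ (0, (Φ.symm (ξ x.1.1)).2)) = x.1.1
      rw [← (hνfix x.1).1 x.2, LinearEquiv.apply_symm_apply, LinearEquiv.symm_apply_apply]
    · refine Subtype.ext ?_
      show (Φ.symm (ξ (ξ.symm (Φ (0, p.1))))).2 = p.1
      rw [LinearEquiv.apply_symm_apply, LinearEquiv.symm_apply_apply]
  have hsupp : (ν.support.card : ℤ) = (Nat.card {p : X.M // X.B p p = 2} : ℤ) - Nat.card {p : Y.M // Y.B p p = 2} := by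
    rw [← Nat.card_congr ξL, ← hfixcard, Nat.card_eq_fintype_card (α := Spinor.ValSet Q 1),
      ← Finset.card_univ (α := Spinor.ValSet Q 1), ← Finset.card_filter_add_card_filter_not
        (s := (Finset.univ : Finset (Spinor.ValSet Q 1))) (fun x => ν x = x), Fintype.card_subtype]
    push_cast
    rw [Equiv.Perm.support]
    simp only [ne_eq]
    ring
  rw [hL, hL0] at hsupp
  have hodd' : Odd (ν.support.card / M) := orbits_odd hodd hn hco hM hσ hη hη' ht hto hdvd hsupp
  refine Prod.ext hpar ?_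
  show Spinor.spin Q 1 z = -1
  unfold Spinor.spin
  rw [MonoidHom.comp_apply]
  rw [hodd'.neg_one_pow] at hsign
  convert hsign

end OddClassCount2560
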